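import Cfsg.Agent.Lib.DIX.Defs

/-! DIX/AI. Independence. Show by induction on `|s|` (`s : Finset ι`): if `w i ∈ W i` and
`∏ i ∈ s, w i = 1` then `w i = 1` for all `i ∈ s`. Step: suppose `w j ≠ 1`, `j ∈ s`. If `s = {j}` this is
absurd. Else take `i ∈ s`, `i ≠ j`, and `b` from `h i j`; put `w' k = b • w k * (w k)⁻¹ ∈ W k`;
`∏_{k ∈ s} w' k = b • 1 * 1⁻¹ = 1` (`Finset.smul_prod'`), `w' i = 1`, so `∏_{s.erase i} w' = 1` and by
induction `w' j = 1`, i.e. `b • w j = w j`, so `w j = 1`. Hence the homomorphism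
`(∀ i, W i) → V`, `w ↦ ∏ i, w i` is injective; `Nat.card_pi`. -/

set_option autoImplicit false
set_option linter.unusedSectionVars false
set_option linter.unusedVariables false

namespace CfsgLib.DIX
open MulAction Subgroup

theorem indep_card {L V ι : Type*} [Group L] [CommGroup V] [MulDistribMulAction L V] [Finite V]
    [Fintype ι] (W : ι → Subgroup V)
    (h : ∀ i j, i ≠ j → ∃ b : L, (∀ w ∈ W i, b • w = w) ∧ (∀ k, ∀ w ∈ W k, b • w ∈ W k) ∧
      ∀ w ∈ W j, b • w = w → w = 1) :
    ∏ i, Nat.card (W i) ≤ Nat.card V := by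
  classical
  have key : ∀ (n : ℕ) (s : Finset ι), s.card = n → ∀ w : ι → V, (∀ i, w i ∈ W i) →
      ∏ i ∈ s, w i = 1 → ∀ j ∈ s, w j = 1 := by
    intro n
    induction n with
    | zero => intro s hs w _ _ j hj; rw [Finset.card_eq_zero.1 hs] at hj; simp at hj
    | succ n ih =>
      intro s hs w hw hp j hj
      by_cases hi : ∃ i ∈ s, i ≠ j
      · obtain ⟨i, his, hij⟩ := hi
        obtain ⟨b, b1, b2, b3⟩ := h i j hij
        have hp' : ∏ k ∈ s, (b • w k * (w k)⁻¹) = 1 := by
          rw [Finset.prod_mul_distrib, Finset.prod_inv_distrib, ← Finset.smul_prod', hp, smul_one,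
            mul_inv_cancel]
        rw [← Finset.mul_prod_erase s _ his, b1 _ (hw i), mul_inv_cancel, one_mul] at hp'
        have := ih (s.erase i) (by rw [Finset.card_erase_of_mem his, hs]; rfl)
          (fun k => b • w k * (w k)⁻¹)
          (fun k => (W k).mul_mem (b2 k _ (hw k)) ((W k).inv_mem (hw k))) hp' j
          (Finset.mem_erase.2 ⟨hij.symm, hj⟩)
        exact b3 _ (hw j) (mul_inv_eq_one.1 this)
      · push Not at hi
        have : s = {j} := Finset.eq_singleton_iff_unique_mem.2 ⟨hj, hi⟩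
        rwa [this, Finset.prod_singleton] at hp
  rw [← Nat.card_pi]
  refine Nat.card_le_card_of_injective (fun w : ∀ i, W i => ∏ i, (w i : V)) fun w w' e => ?_
  funext j
  have := key _ Finset.univ rfl (fun i => (w i : V) * (w' i : V)⁻¹)
    (fun i => (W i).mul_mem (w i).2 ((W i).inv_mem (w' i).2))
    (by rw [Finset.prod_mul_distrib, Finset.prod_inv_distrib, mul_inv_eq_one]; exact e) j
    (Finset.mem_univ j)
  exact Subtype.ext (mul_inv_eq_one.1 this)

end CfsgLib.DIX
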