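import Cfsg.Agent.Lib.DIX.AB
import Cfsg.Agent.Lib.DIX.AI

/-! DIX/AA. Case A. Choose `w ≠ 1` with `|B ⊓ stab w|` maximal; `B₁ = B ⊓ stab w ≠ ⊥` by `hn`.
For a subgroup `E ≤ L` let `F E = {v | ∀ e ∈ E, e • v = v}` (a subgroup of `V`). If `E` is normal and
`F E ≠ ⊥` then `F E` is invariant, so `= ⊤` by `hi`, so `E = ⊥` by `faith`. Hence `B₁ ≠ B` (so
`2 |B₁| ≤ |B|`) and `B₁` is not normal. Let `ι` = the finite set of the subgroups `B ⊓ stab (l • w)`
(`= l B₁ l⁻¹`), `c = |ι| ≥ 2` (if `c = 1` then `B₁` is normal), `u = |F B₁| ≥ 2`; `|F E| = u` and `|E| = |B₁|`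
for `E ∈ ι`. For `E ∈ ι`, `1 ≠ w' ∈ F E`: `B ⊓ stab w' = E` (contains `E`, maximality). `indep_card` for
`W = F`: for `E ≠ E'` in `ι` take `b ∈ E \ E'` (same order); `b` preserves each `F E''` as `B` is
commutative. So `u ^ c ≤ |V|`. The orbit of `w` lies in `⋃ (F E \ {1})`, so has at most `c (u - 1)` points;
`orb` with `Y = B` gives `2 m ≤ c (u - 1)`. Finally `arith`: induction on `c ≥ 2` of
`(2 + c d) ^ 2 ≤ 4 (1 + d) ^ c`. -/

set_option autoImplicit false
set_option linter.unusedSectionVars false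
set_option linter.unusedVariables false

namespace CfsgLib.DIX
open MulAction Subgroup

variable {L V : Type*} [Group L] [CommGroup V] [MulDistribMulAction L V] [Finite L] [Finite V]
  {K : Subgroup L}

theorem caseA_arith {m c u : ℕ} (hc : 2 ≤ c) (hu : 1 ≤ u) (h : 2 * m ≤ c * (u - 1)) :
    (m + 1) ^ 2 ≤ u ^ c := by
  obtain ⟨d, rfl⟩ : ∃ d, u = d + 1 := ⟨u - 1, by omega⟩
  rw [Nat.add_sub_cancel] at h
  have k : ∀ c, 2 ≤ c → (2 + c * d) ^ 2 ≤ 4 * (d + 1) ^ c := fun c hc => by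
    induction c, hc using Nat.le_induction with
    | base => exact le_of_eq (by ring)
    | succ c hc ih =>
      have h1 : d ≤ c * d := Nat.le_mul_of_pos_left d (by omega)
      calc (2 + (c + 1) * d) ^ 2 ≤ (2 + c * d) ^ 2 * (d + 1) := by
            rw [add_mul, one_mul]
            generalize c * d = x at h1 ⊢
            obtain ⟨y, rfl⟩ := Nat.exists_eq_add_of_le h1
            exact Nat.le.intro (k := d * (d + 2 * y + (d + y) ^ 2)) (by ring)
        _ ≤ 4 * (d + 1) ^ c * (d + 1) := Nat.mul_le_mul_right _ ih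
        _ = _ := by ring
  have := (Nat.pow_le_pow_left (show 2 * (m + 1) ≤ 2 + c * d by omega) 2).trans (k c hc)
  rw [mul_pow] at this
  omega

variable (V) in
/-- the common fixed points -/
def aaF (E : Subgroup L) : Subgroup V := ⨅ e ∈ E, Fix V e

theorem mem_aaF {E : Subgroup L} {v : V} : v ∈ aaF V E ↔ ∀ e ∈ E, e • v = v := by simp [aaF, mem_iInf]

theorem aa_conj {B : Subgroup L} (hB : B.Normal) (l e : L) (w : V) :
    e ∈ B ⊓ stabilizer L w ↔ l * e * l⁻¹ ∈ B ⊓ stabilizer L (l • w) := by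
  simp only [mem_inf, mem_stabilizer_iff, mul_smul, inv_smul_smul, smul_left_cancel_iff]
  exact and_congr_left fun _ => ⟨fun h => hB.conj_mem e h l, fun h => by simpa [mul_assoc] using hB.conj_mem' _ h l⟩

theorem aa_card {B : Subgroup L} (hB : B.Normal) (l : L) (w : V) :
    Nat.card ↥(B ⊓ stabilizer L (l • w)) = Nat.card ↥(B ⊓ stabilizer L w) :=
  (Nat.card_congr ((MulAut.conj l).toEquiv.subtypeEquiv fun e => aa_conj hB l e w)).symm

theorem aa_F {B : Subgroup L} (hB : B.Normal) (l : L) (w v : V) :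
    v ∈ aaF V (B ⊓ stabilizer L w) ↔ l • v ∈ aaF V (B ⊓ stabilizer L (l • w)) := by
  rw [mem_aaF, mem_aaF]
  refine ⟨fun h e he => ?_, fun h e he => ?_⟩
  · have := h (l⁻¹ * e * l) ((aa_conj hB l _ w).2 (by simpa [mul_assoc] using he))
    rwa [mul_smul, mul_smul, inv_smul_eq_iff] at this
  · simpa [mul_smul] using h _ ((aa_conj hB l e w).1 he)

theorem Aff.caseA (h : Aff L V K) (hi : Irr L V) {B : Subgroup L} (hB : B.Normal) (hBK : B ≤ K)
    (hc : ∀ a ∈ B, ∀ b ∈ B, a * b = b * a) (hn : ¬ SR V B) :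
    (K.index + 1) ^ 2 ≤ Nat.card V := by
  classical
  simp only [SR, not_forall, not_or] at hn
  obtain ⟨c0, c0B, v0, e0, c1, v1⟩ := hn
  obtain ⟨w, w1, hw⟩ := Set.exists_max_image {v : V | v ≠ 1} (fun v => Nat.card ↥(B ⊓ stabilizer L v))
    (Set.toFinite _) ⟨v0, v1⟩
  have wF : ∀ x : V, x ∈ aaF V (B ⊓ stabilizer L x) := fun x => mem_aaF.2 fun e he => he.2
  have nn : ¬ ∀ l : L, B ⊓ stabilizer L (l • w) = B ⊓ stabilizer L w := fun k => by
    rcases hi (aaF V (B ⊓ stabilizer L w)) (fun g v hv => k g ▸ (aa_F hB g w v).1 hv) with e | e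
    · exact w1 (mem_bot.1 (e ▸ wF w))
    · have := hw v0 v1
      rw [(eq_bot_iff_forall (B ⊓ stabilizer L w)).2 fun x hx => h.faith x fun v => mem_aaF.1 (e ▸ mem_top v) x hx,
        card_bot] at this
      exact c1 (mem_bot.1 ((eq_bot_of_card_le _ this) ▸ (⟨c0B, e0⟩ : c0 ∈ B ⊓ stabilizer L v0)))
  have two : 2 * Nat.card ↥(B ⊓ stabilizer L w) ≤ Nat.card B := by
    obtain ⟨k, hk⟩ := card_dvd_of_le (inf_le_left : B ⊓ stabilizer L w ≤ B)
    have k0 : k ≠ 0 := fun e => by rw [e, mul_zero] at hk; exact Nat.card_pos.ne' hk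
    have k1 : k ≠ 1 := fun e => nn fun l => by
      rw [e, mul_one] at hk
      rw [eq_of_le_of_card_ge inf_le_left hk.le, eq_of_le_of_card_ge inf_le_left (hk.trans (aa_card hB l w).symm).le]
    rw [hk, mul_comm]
    exact Nat.mul_le_mul_left _ (by omega)
  let ι := Set.range fun l : L => B ⊓ stabilizer L (l • w)
  let _ : Fintype ι := Fintype.ofFinite ι
  have c2 : 2 ≤ Fintype.card ι := by
    by_contra hn
    exact nn fun l => (congrArg Subtype.val ((Fintype.card_le_one_iff (α := ι)).1 (by omega)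
      (⟨_, l, rfl⟩ : ι) ⟨_, 1, rfl⟩)).trans (by simp)
  have cF : ∀ E : ι, Nat.card (aaF V E.1) = Nat.card (aaF V (B ⊓ stabilizer L w)) := by
    rintro ⟨_, l, rfl⟩
    exact (Nat.card_congr ((toPerm l).subtypeEquiv fun v => aa_F hB l w v)).symm
  have cE : ∀ E : ι, E.1 ≤ B ∧ Nat.card E.1 = Nat.card ↥(B ⊓ stabilizer L w) := by
    rintro ⟨_, l, rfl⟩
    exact ⟨inf_le_left, aa_card hB l w⟩
  have ind := indep_card (L := L) (fun E : ι => aaF V E.1) fun E E' ne => by
    obtain ⟨b, hb, nb⟩ := SetLike.not_le_iff_exists.1 fun le : E.1 ≤ E'.1 =>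
      ne (Subtype.ext (eq_of_le_of_card_ge le ((cE E').2.trans (cE E).2.symm).le))
    refine ⟨b, fun v hv => mem_aaF.1 hv b hb, fun k v hv => mem_aaF.2 fun e he => ?_, fun v hv e => ?_⟩
    · rw [← mul_smul, hc e ((cE k).1 he) b ((cE E).1 hb), mul_smul, mem_aaF.1 hv e he]
    · by_contra v1
      refine nb ?_
      rw [eq_of_le_of_card_ge (show E'.1 ≤ B ⊓ stabilizer L v from fun x hx => ⟨(cE E').1 hx, mem_aaF.1 hv x hx⟩)
        ((hw v v1).trans (cE E').2.ge)]
      exact ⟨(cE E).1 hb, e⟩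
  simp only [cF, Finset.prod_const, Finset.card_univ] at ind
  have ob : (orbit L w).ncard ≤ Fintype.card ι * (Nat.card (aaF V (B ⊓ stabilizer L w)) - 1) := by
    have : orbit L w ⊆ ⋃ E : ι, (aaF V E.1 : Set V) \ {1} := by
      rintro _ ⟨l, rfl⟩
      exact Set.mem_iUnion.2 ⟨⟨_, l, rfl⟩, wF _, fun e => w1 ((smul_left_cancel_iff l).1 (e.trans (smul_one l).symm))⟩
    refine (Set.ncard_le_ncard this).trans ((Set.ncard_iUnion_le_of_fintype _).trans (le_of_eq ?_))
    rw [Finset.sum_congr rfl fun E _ => (show ((aaF V E.1 : Set V) \ {1}).ncard = Nat.card (aaF V (B ⊓ stabilizer L w)) - 1 by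
      rw [Set.ncard_sdiff_singleton_of_mem (one_mem _), ← Nat.card_coe_set_eq, ← cF E]; rfl)]
    simp
  refine (caseA_arith c2 Nat.card_pos (Nat.le_of_mul_le_mul_right ?_ (Nat.card_pos (α := ↥(B ⊓ stabilizer L w))))).trans ind
  calc _ = K.index * (2 * Nat.card ↥(B ⊓ stabilizer L w)) := by ring
    _ ≤ K.index * Nat.card B := Nat.mul_le_mul_left _ two
    _ ≤ _ := orb (h.stab_le w1) hBK
    _ ≤ _ := Nat.mul_le_mul_right _ ob

end CfsgLib.DIX
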