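import Cfsg.Agent.Lib.DIX.Defs

/-! DIX/AB. Basic counting.
* `orb`: `|orbit| = (stab).index = (stab).relIndex K * K.index` (`relIndex_mul_index`),
  `(stab).relIndex Y ≤ (stab).relIndex K` (`relIndex_le_of_le_right`), and
  `(stab).relIndex Y * |Y ⊓ stab| = |Y|`.
* `dvd_ncard`: `CfsgLib.Recog.dvd_ncard_of_dvd_orbits` and `index_dvd_of_le`.
* `bound_of_not_irr`: `W` invariant, `≠ ⊥, ⊤`. With `m = K.index`: `m ∣ |W| - 1`, `m ∣ |V| - 1`
  (`dvd_ncard` on `W \ {1}`, `univ \ {1}`), `|V| = |W| * t` with `t = W.index ≥ 2`, so `m ∣ t - 1`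
  (`|W| t - 1 = (|W| - 1) t + (t - 1)`); hence `m + 1 ≤ |W|` and `m + 1 ≤ t`.
* `SR.isCyclic`: `CfsgLib.Frob.pqCond_of_action` for `(MulDistribMulAction.toMulAut L V).comp C.subtype`
  and `PQCond.isCyclic_of_comm`. -/

set_option autoImplicit false
set_option linter.unusedSectionVars false
set_option linter.unusedVariables false

namespace CfsgLib.DIX
open MulAction Subgroup

theorem orb {L X : Type*} [Group L] [Finite L] [MulAction L X] {K Y : Subgroup L} {x : X}
    (hs : stabilizer L x ≤ K) (hY : Y ≤ K) :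
    K.index * Nat.card Y ≤ (orbit L x).ncard * Nat.card ↥(Y ⊓ stabilizer L x) := by
  have h1 : (orbit L x).ncard = (stabilizer L x).index := by
    rw [← Nat.card_coe_set_eq, Nat.card_congr (orbitEquivQuotientStabilizer L x)]; rfl
  have h2 := relIndex_mul_index hs
  have h3 : (stabilizer L x).relIndex Y ≤ (stabilizer L x).relIndex K :=
    relIndex_le_of_le_right hY (index_ne_zero_of_finite)
  have h4 : (stabilizer L x).relIndex Y * Nat.card ↥(Y ⊓ stabilizer L x) = Nat.card Y := by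
    have e := ((stabilizer L x).subgroupOf Y).index_mul_card
    rw [← e, relIndex, inf_comm, ← inf_subgroupOf_right (stabilizer L x) Y,
      Nat.card_congr (subgroupOfEquivOfLe (inf_le_right : stabilizer L x ⊓ Y ≤ Y)).toEquiv]
  rw [h1, ← h2, ← h4]
  calc K.index * ((stabilizer L x).relIndex Y * Nat.card ↥(Y ⊓ stabilizer L x))
      ≤ K.index * ((stabilizer L x).relIndex K * Nat.card ↥(Y ⊓ stabilizer L x)) := by gcongr
    _ = _ := by ring

theorem dvd_ncard {L X : Type*} [Group L] [Finite L] [MulAction L X] [Finite X] {K : Subgroup L}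
    (S : Set X) (hS : ∀ g : L, ∀ x ∈ S, g • x ∈ S) (hK : ∀ x ∈ S, stabilizer L x ≤ K) :
    K.index ∣ S.ncard := by
  refine CfsgLib.Recog.dvd_ncard_of_dvd_orbits (H := L) _ S hS fun x hx => ?_
  rw [Nat.card_congr (orbitEquivQuotientStabilizer L x)]
  exact index_dvd_of_le (hK x hx)

variable {L V : Type*} [Group L] [CommGroup V] [MulDistribMulAction L V] [Finite L] [Finite V]
  {K : Subgroup L}

theorem Aff.stab_le (h : Aff L V K) {v : V} (hv : v ≠ 1) : stabilizer L v ≤ K := by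
  intro g hg
  by_contra hk
  exact hv (h.fpf g hk v hg)

theorem Aff.bound_of_not_irr (h : Aff L V K) (hi : ¬ Irr L V) :
    (K.index + 1) ^ 2 ≤ Nat.card V := by
  have key : ∀ W : Subgroup V, (∀ g : L, ∀ w ∈ W, g • w ∈ W) → K.index ∣ Nat.card W - 1 := by
    intro W hW
    have := dvd_ncard (K := K) ((W : Set V) \ {1}) (fun g x hx => ⟨hW g x hx.1, fun e => hx.2 (by
      have e' : g • x = g • (1 : V) := by rw [smul_one]; exact e
      exact smul_left_cancel g e')⟩) (fun x hx => h.stab_le hx.2)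
    rwa [Set.ncard_sdiff_singleton_of_mem W.one_mem, ← Nat.card_coe_set_eq] at this
  unfold Irr at hi
  push Not at hi
  obtain ⟨W, hW, h1, h2⟩ := hi
  have a1 := key W hW
  have a2 := key ⊤ (fun _ _ _ => mem_top _)
  rw [card_top, ← W.card_mul_index] at a2
  have b1 : 1 < Nat.card W := (one_lt_card_iff_ne_bot W).2 h1
  have b2 : 1 < W.index := one_lt_index_of_ne_top h2
  obtain ⟨u, hu⟩ : ∃ u, Nat.card W = u + 1 := ⟨Nat.card W - 1, by omega⟩
  obtain ⟨t, ht⟩ : ∃ t, W.index = t + 1 := ⟨W.index - 1, by omega⟩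
  rw [← W.card_mul_index]
  rw [hu, ht] at a2 ⊢
  rw [hu, Nat.add_sub_cancel] at a1
  have e : (u + 1) * (t + 1) - 1 = u * (t + 1) + t := by
    rw [show (u + 1) * (t + 1) = u * (t + 1) + t + 1 by ring, Nat.add_sub_cancel]
  rw [e, Nat.dvd_add_right (a1.mul_right _)] at a2
  have c1 := Nat.le_of_dvd (by omega) a1
  have c2 := Nat.le_of_dvd (by omega) a2
  rw [sq]
  exact Nat.mul_le_mul (by omega) (by omega)

theorem SR.isCyclic [Nontrivial V] {C : Subgroup L} (h : SR V C)
    (hc : ∀ a ∈ C, ∀ b ∈ C, a * b = b * a) : IsCyclic C := by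
  refine (CfsgLib.Frob.pqCond_of_action ((MulDistribMulAction.toMulAut L V).comp C.subtype)
    fun a ha v hv => ?_).isCyclic_of_comm ⟨⟨fun a b => Subtype.ext (hc _ a.2 _ b.2)⟩⟩
  exact (h a a.2 v hv).resolve_left fun e => ha (Subtype.ext e)

/-- Conjugate elements have equally many fixed points (`v ↦ l • v`). -/
theorem card_Fix_conj (l g : L) : Nat.card (Fix V (l * g * l⁻¹)) = Nat.card (Fix V g) := by
  have h1 : ∀ v : Fix V g, l • v.1 ∈ Fix V (l * g * l⁻¹) := fun v => by
    rw [mem_Fix, mul_smul, mul_smul, inv_smul_smul, mem_Fix.1 v.2]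
  have h2 : ∀ v : Fix V (l * g * l⁻¹), l⁻¹ • v.1 ∈ Fix V g := fun v => by
    have := mem_Fix.1 v.2
    rw [mul_smul, mul_smul, smul_eq_iff_eq_inv_smul] at this
    exact this
  exact (Nat.card_congr
    { toFun := fun v => ⟨l • v.1, h1 v⟩
      invFun := fun v => ⟨l⁻¹ • v.1, h2 v⟩
      left_inv := fun v => Subtype.ext (inv_smul_smul l v.1)
      right_inv := fun v => Subtype.ext (smul_inv_smul l v.1) }).symm

/-- Two subgroups meeting trivially: `(a, b) ↦ a * b` is injective. -/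
theorem card_mul_le_of_inf {A B : Subgroup V} (h : ∀ v ∈ A, v ∈ B → v = 1) :
    Nat.card A * Nat.card B ≤ Nat.card V := by
  rw [← Nat.card_prod]
  refine Nat.card_le_card_of_injective (fun p : A × B => (p.1 : V) * p.2) fun p q e => ?_
  have e1 : (q.1 : V)⁻¹ * p.1 = q.2 * (p.2 : V)⁻¹ := by
    rw [inv_mul_eq_iff_eq_mul, ← mul_assoc, eq_mul_inv_iff_mul_eq]; exact e
  have e2 := h _ (A.mul_mem (A.inv_mem q.1.2) p.1.2) (e1 ▸ B.mul_mem q.2.2 (B.inv_mem p.2.2))
  refine Prod.ext (Subtype.ext (inv_mul_eq_one.1 e2).symm) (Subtype.ext ?_)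
  rw [e2] at e1
  exact (mul_inv_eq_one.1 e1.symm).symm

end CfsgLib.DIX
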