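import Cfsg.Agent.Lib.DIX.AB

/-! DIX/AC. Case B1. `f = |Fix g|`. `l • v ∈ Fix (l g l⁻¹) \ {1}` and `l g l⁻¹ = c g` with `c ∈ C`, so the
orbit of `v` is covered by at most `|C|` sets of size `f - 1` (`card_Fix_conj`): `|orbit| ≤ |C| (f - 1)`.
`orb` with `Y = C` and `C ⊓ stab v = ⊥` gives `m |C| ≤ |orbit|`, so `m + 1 ≤ f` (`f ≥ 1`). With `l` from `hnc`,
`g' = l g l⁻¹ = c g`, `c ≠ 1`, so `Fix g ∩ Fix g' = 1` by `hC`; `card_mul_le_of_inf` gives `f ^ 2 ≤ |V|`. -/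

set_option autoImplicit false
set_option linter.unusedSectionVars false
set_option linter.unusedVariables false

namespace CfsgLib.DIX
open MulAction Subgroup

variable {L V : Type*} [Group L] [CommGroup V] [MulDistribMulAction L V] [Finite L] [Finite V]
  {K : Subgroup L}

theorem Aff.caseB1 (h : Aff L V K) {C : Subgroup L} (hCK : C ≤ K) (hC : SR V C) {g : L} {v : V}
    (hv : v ≠ 1) (hgv : g • v = v) (hconj : ∀ l : L, l * g * l⁻¹ * g⁻¹ ∈ C)
    (hnc : ∃ l : L, l * g ≠ g * l) : (K.index + 1) ^ 2 ≤ Nat.card V := by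
  have hr : ∀ c : L, ∃ r : L, (∃ l : L, l * g * l⁻¹ * g⁻¹ = c) → r * g * r⁻¹ * g⁻¹ = c := fun c => by
    by_cases e : ∃ l : L, l * g * l⁻¹ * g⁻¹ = c
    · exact ⟨e.choose, fun _ => e.choose_spec⟩
    · exact ⟨1, fun k => absurd k e⟩
  choose r hr using hr
  have sub : orbit L v ⊆ (fun p : L × V => r p.1 • p.2) '' ((C : Set L) ×ˢ ((Fix V g : Set V) \ {1})) := by
    rintro _ ⟨l, rfl⟩
    have e := hr _ ⟨l, rfl⟩
    generalize hc : l * g * l⁻¹ * g⁻¹ = c at e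
    refine ⟨(c, (r c)⁻¹ • l • v), ⟨hc ▸ hconj l, ?_, fun k => hv ?_⟩, smul_inv_smul _ _⟩
    · have e2 : g * (r c)⁻¹ * l = (r c)⁻¹ * l * g := by
        have e3 := mul_right_cancel (e.trans hc.symm)
        calc g * (r c)⁻¹ * l = (r c)⁻¹ * (r c * g * (r c)⁻¹) * l := by group
          _ = (r c)⁻¹ * l * g := by rw [e3]; group
      change g • (r c)⁻¹ • l • v = (r c)⁻¹ • l • v
      rw [← mul_smul, ← mul_smul, e2, mul_smul, hgv, mul_smul]
    · have k' : (r c)⁻¹ • l • v = 1 := k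
      rw [← mul_smul] at k'
      rw [← inv_smul_smul ((r c)⁻¹ * l) v, k', smul_one]
  have h1 : (orbit L v).ncard ≤ Nat.card C * (Nat.card (Fix V g) - 1) := by
    refine (Set.ncard_le_ncard sub).trans ((Set.ncard_image_le (Set.toFinite _)).trans ?_)
    rw [Set.ncard_prod, Set.ncard_diff_singleton_of_mem (show (1 : V) ∈ (Fix V g : Set V) from one_mem _)]
    rfl
  have h2 := orb (h.stab_le hv) hCK
  have h3 : C ⊓ stabilizer L v = ⊥ := eq_bot_iff.2 fun c hc =>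
    mem_bot.2 ((hC c (mem_inf.1 hc).1 v (mem_inf.1 hc).2).resolve_right hv)
  rw [h3, card_bot, mul_one] at h2
  have h4 : K.index ≤ Nat.card (Fix V g) - 1 :=
    Nat.le_of_mul_le_mul_left ((mul_comm _ _).trans_le (h2.trans h1)) (Nat.card_pos (α := C))
  have h5 : 0 < Nat.card (Fix V g) := Nat.card_pos
  obtain ⟨l, hl⟩ := hnc
  have h6 := card_mul_le_of_inf (A := Fix V g) (B := Fix V (l * g * l⁻¹)) fun w h1 h2 =>
    (hC _ (hconj l) w (by
      rw [mul_smul, show g⁻¹ • w = w from inv_smul_eq_iff.2 (mem_Fix.1 h1).symm]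
      exact h2)).resolve_left fun e => hl (by rwa [mul_inv_eq_one, mul_inv_eq_iff_eq_mul] at e)
  rw [card_Fix_conj] at h6
  exact ((Nat.pow_le_pow_left (by omega) 2).trans_eq (sq _)).trans h6

end CfsgLib.DIX
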