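import Cfsg.Agent.Lib.DIX.AB

/-! DIX/AD. Double count. `O = orbit L v`, `a = |Y ⊓ stab v|`. For `v' = l • v ∈ O` also
`|Y ⊓ stab v'| = a` (conjugate by `l`, `Y` normal), and `v' ≠ 1`. Count the pairs `(y, v')`, `y ∈ Y`, `y ≠ 1`,
`v' ∈ O`, `y • v' = v'`: there are `|O| (a - 1)`; each `y` that occurs lies in the set of `hN` and
occurs at most `|Fix y| - 1 ≤ f - 1` times. So `|O| (a - 1) ≤ N (f - 1)`; multiply `orb`
(`m |Y| ≤ |O| a`, with `Aff.stab_le`) by `a - 1`. -/

set_option autoImplicit false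
set_option linter.unusedSectionVars false
set_option linter.unusedVariables false

namespace CfsgLib.DIX
open MulAction Subgroup

variable {L V : Type*} [Group L] [CommGroup V] [MulDistribMulAction L V] [Finite L] [Finite V]
  {K : Subgroup L}

theorem Aff.dc (h : Aff L V K) {Y : Subgroup L} (hYn : Y.Normal) (hY : Y ≤ K) {v : V} (hv : v ≠ 1)
    {f N : ℕ} (hf : ∀ y ∈ Y, y ≠ 1 → Nat.card (Fix V y) ≤ f)
    (hN : {y : L | y ∈ Y ∧ y ≠ 1 ∧ ∃ w : V, w ≠ 1 ∧ y • w = w}.ncard ≤ N) :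
    K.index * Nat.card Y * (Nat.card ↥(Y ⊓ stabilizer L v) - 1) ≤
      Nat.card ↥(Y ⊓ stabilizer L v) * N * (f - 1) := by
  classical
  set a := Nat.card ↥(Y ⊓ stabilizer L v) with ha
  set T : Set L := {y : L | y ∈ Y ∧ y ≠ 1 ∧ ∃ w : V, w ≠ 1 ∧ y • w = w} with hT
  have ne1 : ∀ l : L, l • v ≠ 1 := fun l e => hv (by rw [← inv_smul_smul l v, e, smul_one])
  have key : (orbit L v).toFinite.toFinset.card * (a - 1) ≤ T.toFinite.toFinset.card * (f - 1) := by
    refine Finset.card_mul_le_card_mul (fun (w : V) (y : L) => y • w = w) ?_ ?_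
    · intro w hw
      obtain ⟨l, rfl⟩ := (Set.Finite.mem_toFinset _).1 hw
      have e1 : a - 1 = (((Y ⊓ stabilizer L v : Subgroup L) : Set L) \ {1}).ncard := by
        rw [Set.ncard_diff_singleton_of_mem (Subgroup.one_mem _), ha]
        rfl
      rw [e1, ← Set.ncard_coe_finset]
      refine Set.ncard_le_ncard_of_injOn (fun y => l * y * l⁻¹) (fun y hy => ?_)
        (fun x _ y _ e => by simpa using e)
      have e2 : (l * y * l⁻¹) • l • v = l • v := by
        rw [mul_smul, mul_smul, inv_smul_smul, mem_stabilizer_iff.1 hy.1.2]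
      rw [Finset.mem_coe, Finset.mem_bipartiteAbove, Set.Finite.mem_toFinset]
      exact ⟨⟨hYn.conj_mem y hy.1.1 l, fun e => hy.2 (by simpa using e), l • v, ne1 l, e2⟩, e2⟩
    · intro y hy
      have hy' : y ∈ T := (Set.Finite.mem_toFinset _).1 hy
      have e1 : ((Fix V y : Set V) \ {1}).ncard ≤ f - 1 := by
        rw [Set.ncard_diff_singleton_of_mem (Subgroup.one_mem _)]
        exact Nat.sub_le_sub_right (hf y hy'.1 hy'.2.1) 1
      rw [← Set.ncard_coe_finset]
      refine (Set.ncard_le_ncard (fun w hw => ?_)).trans e1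
      rw [Finset.mem_coe, Finset.mem_bipartiteBelow, Set.Finite.mem_toFinset] at hw
      obtain ⟨⟨l, rfl⟩, h2⟩ := hw
      exact ⟨h2, ne1 l⟩
  rw [← Set.ncard_eq_toFinset_card _ (orbit L v).toFinite, ← Set.ncard_eq_toFinset_card _ T.toFinite] at key
  have h1 := orb (h.stab_le hv) hY
  calc K.index * Nat.card Y * (a - 1) ≤ (orbit L v).ncard * a * (a - 1) := Nat.mul_le_mul_right _ h1
    _ = a * ((orbit L v).ncard * (a - 1)) := by ring
    _ ≤ a * (N * (f - 1)) := Nat.mul_le_mul_left _ (key.trans (Nat.mul_le_mul_right _ hN))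
    _ = a * N * (f - 1) := by ring

end CfsgLib.DIX
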