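import Cfsg.Agent.Lib.DIX.AB
import Cfsg.Agent.Lib.DIX.AI

/-! DIX/AF. If `Fix y = ⊥` the left side is `1`. Else `fixp` gives `x ∈ Y` with
`1 ≠ z' := x y x⁻¹ y⁻¹ ∈ zpowers z`; `z'` is central in `Y`; every power `z' ^ k ≠ 1` has order `q` (prime), so
`z` is a power of it and it fixes only `1`. `x ^ i y x ^ (-i) = z' ^ i y`, so `|Fix (z' ^ i y)| = |Fix y|`
(`card_Fix_conj`). `indep_card` for `W i = Fix (z' ^ i y)`, `i : Fin q`, `b = z' ^ i y`: it commutes with
`z' ^ k y`, and if it fixes `w ∈ W j` then `z' ^ i • u = z' ^ j • u` for `u = y • w`, so `u = 1`. -/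

set_option autoImplicit false
set_option linter.unusedSectionVars false
set_option linter.unusedVariables false

namespace CfsgLib.DIX
open MulAction Subgroup

variable {L V : Type*} [Group L] [CommGroup V] [MulDistribMulAction L V] [Finite L] [Finite V]
  {K : Subgroup L}

theorem ES.fpow {Y : Subgroup L} {q : ℕ} {z : L} (h : ES V K Y q z) {y : L} (hy : y ∈ Y)
    (h1 : y ≠ 1) : Nat.card (Fix V y) ^ q ≤ Nat.card V := by
  classical
  have hq := h.prime
  by_cases hb : Fix V y = ⊥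
  · rw [hb, card_bot, one_pow]; exact Nat.card_pos
  obtain ⟨⟨v, hv⟩, hv1⟩ := ne_bot_iff_exists_ne_one.1 hb
  obtain ⟨-, x, hx, hxy⟩ := h.fixp y hy h1 v (fun e => hv1 (Subtype.ext e)) hv
  obtain ⟨c, hc⟩ : ∃ c, c = x * y * x⁻¹ * y⁻¹ := ⟨_, rfl⟩
  have hcz : c ∈ zpowers z := hc ▸ h.comm x hx y hy
  have hc1 : c ≠ 1 := fun e => hxy (by
    rw [hc, mul_inv_eq_one, mul_inv_eq_iff_eq_mul] at e; exact e)
  have hcard : Nat.card (zpowers z) = q := by rw [Nat.card_zpowers, h.zord]
  have hcent : ∀ e ∈ zpowers z, ∀ t ∈ Y, Commute e t := by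
    rintro _ ⟨k, rfl⟩ t ht
    exact (show Commute z t from h.zcent t ht).zpow_left k
  have hfpf : ∀ e ∈ zpowers z, e ≠ 1 → ∀ u : V, e • u = u → u = 1 := by
    intro e he he1 u hu
    have := Fact.mk hq
    have h2 : (⟨z, mem_zpowers z⟩ : zpowers z) ∈ zpowers (⟨e, he⟩ : zpowers z) :=
      mem_zpowers_of_prime_card hcard (fun e' => he1 (congrArg Subtype.val e'))
    obtain ⟨k, hk⟩ := h2
    have h3 : e ^ k = z := congrArg Subtype.val hk
    refine h.zfpf u ?_
    rw [← h3]
    exact (stabilizer L u).zpow_mem hu k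
  have hord : orderOf c = q := by
    have h2 : orderOf c ∣ q := by rw [← h.zord]; exact orderOf_dvd_of_mem_zpowers hcz
    exact ((Nat.dvd_prime hq).1 h2).resolve_left fun e => hc1 (orderOf_eq_one_iff.1 e)
  have hconj : ∀ i : ℕ, x ^ i * y * (x ^ i)⁻¹ = c ^ i * y := by
    intro i
    induction i with
    | zero => simp
    | succ i ih =>
      have h2 := (hcent _ ((zpowers z).pow_mem hcz i) x hx).eq
      calc x ^ (i + 1) * y * (x ^ (i + 1))⁻¹ = x * (x ^ i * y * (x ^ i)⁻¹) * x⁻¹ := by group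
        _ = x * c ^ i * y * x⁻¹ := by rw [ih]; group
        _ = c ^ i * (x * y * x⁻¹ * y⁻¹) * y := by rw [← h2]; group
        _ = _ := by rw [← hc, pow_succ]
  have hzY : zpowers z ≤ Y := zpowers_le.2 h.zmem
  have key := indep_card (L := L) (fun i : Fin q => Fix V (c ^ (i : ℕ) * y)) (by
    intro i j hij
    refine ⟨c ^ (i : ℕ) * y, fun w hw => hw, fun k w hw => ?_, fun w hw e => ?_⟩
    · have hm : Commute (c ^ (k : ℕ) * y) (c ^ (i : ℕ) * y) := by
        refine Commute.mul_left (hcent _ ((zpowers z).pow_mem hcz k) _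
          (Y.mul_mem (hzY ((zpowers z).pow_mem hcz i)) hy)) ?_
        exact Commute.mul_right (hcent _ ((zpowers z).pow_mem hcz i) y hy).symm (Commute.refl y)
      rw [mem_Fix, ← mul_smul, hm.eq, mul_smul, mem_Fix.1 hw]
    · have hw' := mem_Fix.1 hw
      refine hfpf (c ^ (i : ℕ) * (c ^ (j : ℕ))⁻¹) ((zpowers z).mul_mem ((zpowers z).pow_mem hcz i)
        ((zpowers z).inv_mem ((zpowers z).pow_mem hcz j))) (fun e' => hij (Fin.ext ?_)) w ?_
      · rw [mul_inv_eq_one] at e'
        exact pow_injOn_Iio_orderOf (by rw [hord]; exact i.2) (by rw [hord]; exact j.2) e'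
      · rw [mul_smul] at hw' e
        rw [mul_smul, ← eq_inv_smul_iff.2 hw', e])
  simp only [← hconj, card_Fix_conj, Finset.prod_const, Finset.card_univ, Fintype.card_fin] at key
  exact key

end CfsgLib.DIX
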