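import Cfsg.Agent.Lib.DIX.AD
import Cfsg.Agent.Lib.DIX.AF

/-! DIX/AE. `q = 2`. `zpowers z = {1, z}`; `z • w = w⁻¹` (as `w * z • w` is fixed by `z`). `f` = maximum of `|Fix y|`
over `1 ≠ y ∈ Y`, `f ^ 2 ≤ |V|` (`ES.fpow`); it suffices to show `m ≤ f - 1`. `g, v` from `ex`, `g ^ 2 = 1`, `g` not
central in `Y`. `C = Y ⊓ centralizer {g}` has `|Y| = 2 |C|` (`y g y⁻¹ ∈ {g, z g}`; for `y, y' ∉ C`, `y'⁻¹ y ∈ C`).
`N` = the set in `Aff.dc`; its elements `h` have `h ^ 2 = 1`, `h ≠ 1, z`. `h ↦ h g` maps `N \ C` injectively into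
`(Y \ C) \ N` (`(h g) ^ 2 = z ≠ 1`), so `2 |N \ C| ≤ |Y \ C| = |C|`.
(i) Some `v' ≠ 1` has `a = |Y ⊓ stab v'| ≥ 4`: `2 |N| ≤ 3 |C|`, `dc` gives `4 m (a - 1) ≤ 3 a (f - 1)`, `3 a ≤ 4 (a - 1)`.
(ii) Otherwise `N ∩ C ⊆ {g, g z}`: for `h ∈ N ∩ C` different from these, either `v * h • v ≠ 1` is fixed by
the four elements `1, g, h, g h`, or `h • v = v⁻¹ = z • v` and `v` is fixed by `1, g, z h, g z h`. Also
`1, z, g, g z ∈ C` are distinct, so `|C| ≥ 4` and `|N| ≤ 2 + |C| / 2 ≤ |C|`; `dc` at `v` (`a ≥ 2`) gives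
`2 m (a - 1) ≤ a (f - 1)`, `a ≤ 2 (a - 1)`. -/

set_option autoImplicit false
set_option linter.unusedSectionVars false
set_option linter.unusedVariables false

namespace CfsgLib.DIX
open MulAction Subgroup

variable {L V : Type*} [Group L] [CommGroup V] [MulDistribMulAction L V] [Finite L] [Finite V]
  {K : Subgroup L}

theorem ae_four {H : Subgroup L} {x y : L} (hx : x ∈ H) (hy : y ∈ H) (x1 : x ≠ 1) (y1 : y ≠ 1)
    (xy : x ≠ y) (xx : x * x = 1) : 3 < (H : Set L).ncard :=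
  (Set.three_lt_ncard_iff (Set.toFinite _)).2 ⟨1, x, y, x * y, one_mem H, hx, hy, mul_mem hx hy,
    x1.symm, y1.symm, fun e => xy (mul_left_cancel (xx.trans e)), xy,
    fun e => y1 (mul_eq_left.1 e.symm), fun e => x1 (mul_eq_right.1 e.symm)⟩

theorem ae_arith {m y a n f k : ℕ} (h : m * y * (a - 1) ≤ a * n * f) (hy : 0 < y) (ha : k + 2 ≤ a)
    (hn : (k + 2) * n ≤ (k + 1) * y) : m ≤ f := by
  obtain ⟨b, rfl⟩ := Nat.exists_eq_add_of_le ha
  rw [show k + 2 + b - 1 = k + 1 + b by omega] at h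
  have h1 : (k + 2 + b) * n ≤ y * (k + 1 + b) := Nat.le_of_mul_le_mul_left (c := k + 2) (by
    calc (k + 2) * ((k + 2 + b) * n) = (k + 2 + b) * ((k + 2) * n) := by ring
      _ ≤ (k + 2 + b) * ((k + 1) * y) := Nat.mul_le_mul_left _ hn
      _ ≤ (k + 2 + b) * ((k + 1) * y) + b * y := Nat.le_add_right _ _
      _ = _ := by ring) (by omega)
  refine Nat.le_of_mul_le_mul_right (c := y * (k + 1 + b)) ?_ (by positivity)
  calc _ = m * y * (k + 1 + b) := by ring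
    _ ≤ _ := h.trans (Nat.mul_le_mul_right f h1)
    _ = _ := by ring

theorem ES.even (ha : Aff L V K) {Y : Subgroup L} {z : L} (h : ES V K Y 2 z) :
    (K.index + 1) ^ 2 ≤ Nat.card V := by
  obtain ⟨g, gY, g1, v, v1, gv⟩ := h.ex
  obtain ⟨gg, x, xY, xg⟩ := h.fixp g gY g1 v v1 gv
  rw [sq] at gg
  have zz : z * z = 1 := by rw [← sq, ← h.zord, pow_orderOf_eq_one]
  have z1 : z ≠ 1 := fun e => by simpa [e] using h.zord
  have dc := fun w (hw : w ≠ 1) => ha.dc h.normal h.le hw (f := (Nat.card V).sqrt)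
    (fun y hy y1 => Nat.le_sqrt'.2 (h.fpow hy y1)) le_rfl
  obtain ⟨N, hN⟩ : ∃ N : Set L, N = {y : L | y ∈ Y ∧ y ≠ 1 ∧ ∃ w : V, w ≠ 1 ∧ y • w = w} :=
    ⟨_, rfl⟩
  rw [← hN] at dc
  have NY : ∀ y ∈ N, y ∈ Y := fun y hy => (hN.le hy).1
  have N2 : ∀ y ∈ N, y * y = 1 := fun y hy => by
    obtain ⟨h1, h2, w, h3, h4⟩ := hN.le hy
    rw [← sq, (h.fixp y h1 h2 w h3 h4).1]
  let T : Subgroup L := centralizer {g}
  have hT : ∀ y, y ∈ (T : Set L) ↔ y * g = g * y := fun y => mem_centralizer_singleton_iff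
  have c1 := Set.ncard_inter_add_ncard_sdiff_eq_ncard (Y : Set L) T
  have c2 := Set.ncard_inter_add_ncard_sdiff_eq_ncard N T
  have c3 := Set.ncard_inter_add_ncard_sdiff_eq_ncard ((Y : Set L) \ T) N
  have c4 : (N \ T).ncard ≤ (((Y : Set L) \ T) ∩ N).ncard :=
    Set.ncard_le_ncard fun y hy => ⟨⟨NY y hy.1, hy.2⟩, hy.1⟩
  have c5 : (N \ T).ncard ≤ (((Y : Set L) \ T) \ N).ncard :=
    Set.ncard_le_ncard_of_injOn (· * g) (fun y hy => ⟨⟨mul_mem (NY y hy.1) gY, fun k => hy.2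
      ((mul_mem_cancel_right ((hT g).2 rfl)).1 k)⟩, fun k => hy.2 ((hT y).2 (by
        rw [← inv_eq_of_mul_eq_one_right (N2 _ k), mul_inv_rev, inv_eq_of_mul_eq_one_right gg,
          inv_eq_of_mul_eq_one_right (N2 y hy.1)]))⟩) fun _ _ _ _ e => mul_right_cancel e
  have c6 : (Y : Set L).ncard = Nat.card Y := rfl
  have y0 : 0 < Nat.card Y := Nat.card_pos
  have f0 : 0 < (Nat.card V).sqrt := Nat.sqrt_pos.2 Nat.card_pos
  refine Nat.le_sqrt'.1 (Nat.add_le_of_le_sub f0 ?_)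
  by_cases H : ∃ w : V, w ≠ 1 ∧ 3 < Nat.card ↥(Y ⊓ stabilizer L w)
  · obtain ⟨w, w1, hw⟩ := H
    have c7 : (N ∩ T).ncard ≤ ((Y : Set L) ∩ T).ncard :=
      Set.ncard_le_ncard fun y hy => ⟨NY y hy.1, hy.2⟩
    have c8 : ((Y : Set L) ∩ T).ncard ≤ ((Y : Set L) \ T).ncard :=
      Set.ncard_le_ncard_of_injOn (x * ·) (fun y hy => ⟨mul_mem xY hy.1, fun k =>
        xg ((hT x).1 ((mul_mem_cancel_right hy.2).1 k))⟩) fun _ _ _ _ e => mul_left_cancel e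
    exact ae_arith (k := 2) (dc w w1) y0 hw (by omega)
  have zg := h.zcent g gY
  have fx : ∀ y : L, y * y = 1 → y • (v * y • v) = v * y • v := fun y hy => by
    rw [smul_mul', smul_smul, hy, one_smul, mul_comm]
  have zv : z • v = v⁻¹ := eq_inv_of_mul_eq_one_right (h.zfpf _ (fx z zz))
  have c7 : N ∩ T ⊆ {g, z * g} := fun y hy => by
    by_contra k
    have k1 : g ≠ y := fun e => k (.inl e.symm)
    have k2 : g ≠ z * y := fun e =>
      k (.inr (show y = z * g by rw [e, ← mul_assoc, zz, one_mul]))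
    obtain ⟨yY, y1, w, w1, yw⟩ := hN.le hy.1
    by_cases e : v * y • v = 1
    · refine H ⟨v, v1, ae_four (H := Y ⊓ stabilizer L v) ⟨gY, gv⟩ ⟨mul_mem h.zmem yY, ?_⟩ g1
        (fun e' => w1 (h.zfpf w ?_)) k2 gg⟩
      · change (z * y) • v = v
        rw [mul_smul, eq_inv_of_mul_eq_one_right e, smul_inv', zv, inv_inv]
      · rwa [mul_left_cancel (zz.trans e'.symm)]
    · refine H ⟨_, e, ae_four (H := Y ⊓ stabilizer L (v * y • v)) ⟨gY, ?_⟩ ⟨yY, fx y (N2 y hy.1)⟩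
        g1 y1 k1 gg⟩
      change g • (v * y • v) = v * y • v
      rw [smul_mul', gv, smul_smul, ← (hT y).1 hy.2, mul_smul, gv]
  have c8 : (N ∩ T).ncard ≤ 2 := (Set.ncard_le_ncard c7).trans
    ((Set.ncard_insert_le _ _).trans (by rw [Set.ncard_singleton]))
  have c9 : 3 < ((Y : Set L) ∩ T).ncard := ae_four (H := Y ⊓ T) ⟨gY, (hT g).2 rfl⟩
    ⟨h.zmem, (hT z).2 zg⟩ g1 z1 (fun e => v1 (h.zfpf v (e ▸ gv))) gg
  refine ae_arith (k := 0) (dc v v1) y0 ((one_lt_card_iff_ne_bot _).2 fun e => g1 ?_) (by omega)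
  exact mem_bot.1 (e.le ⟨gY, gv⟩)

end CfsgLib.DIX
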