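import Cfsg.Agent.Lib.DIX.AD
import Cfsg.Agent.Lib.DIX.AF

/-! DIX/AO: the case `q` odd. -/

set_option autoImplicit false
set_option linter.unusedSectionVars false
set_option linter.unusedVariables false

namespace CfsgLib.DIX
open MulAction Subgroup

variable {L V : Type*} [Group L] [CommGroup V] [MulDistribMulAction L V] [Finite L] [Finite V]
  {K : Subgroup L}

theorem ES.odd (ha : Aff L V K) {Y : Subgroup L} {q : ℕ} {z : L} (h : ES V K Y q z) (hq : q ≠ 2) :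
    (K.index + 1) ^ 2 ≤ Nat.card V := by
  classical
  obtain ⟨g, hg, g1, v, v1, gv⟩ := h.ex
  have : Fact q.Prime := ⟨h.prime⟩
  have q3 : 3 ≤ q := by have := h.prime.two_le; omega
  have a3 : 3 ≤ Nat.card ↥(Y ⊓ stabilizer L v) := by
    have h1 : zpowers g ≤ Y ⊓ stabilizer L v := zpowers_le.2 ⟨hg, gv⟩
    have h2 := card_le_of_le h1
    rw [Nat.card_zpowers, orderOf_eq_prime (h.fixp g hg g1 v v1 gv).1 g1] at h2
    omega
  obtain ⟨y, hy, hm⟩ := Set.exists_max_image {y : L | y ∈ Y ∧ y ≠ 1} (fun y => Nat.card (Fix V y))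
    (Set.toFinite _) ⟨g, hg, g1⟩
  have h1 := ha.dc h.normal h.le v1 (f := Nat.card (Fix V y)) (N := Nat.card Y)
    (fun x hx x1 => hm x ⟨hx, x1⟩) (Set.ncard_le_ncard (t := (Y : Set L)) fun x hx => hx.1)
  have h2 : Nat.card (Fix V y) ^ 3 ≤ Nat.card V :=
    (Nat.pow_le_pow_right Nat.card_pos q3).trans (h.fpow hy.1 hy.2)
  obtain ⟨d, hd⟩ : ∃ d, Nat.card (Fix V y) = d + 1 := ⟨_, (Nat.succ_pred_eq_of_pos Nat.card_pos).symm⟩
  obtain ⟨b, hb⟩ : ∃ b, Nat.card ↥(Y ⊓ stabilizer L v) = b + 3 := ⟨_, (Nat.sub_add_cancel a3).symm⟩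
  rw [hd] at h1 h2
  rw [hb, show b + 3 - 1 = b + 2 from rfl, Nat.add_sub_cancel] at h1
  have h3 : K.index * (b + 2) ≤ (b + 3) * d :=
    Nat.le_of_mul_le_mul_left (c := Nat.card Y) (by nlinarith) Nat.card_pos
  have h4 : 2 * K.index ≤ 3 * d :=
    Nat.le_of_mul_le_mul_right (c := b + 2) (by nlinarith) (by omega)
  have h5 : (2 * (K.index + 1)) ^ 2 ≤ (3 * d + 2) ^ 2 := Nat.pow_le_pow_left (by omega) 2
  nlinarith [Nat.zero_le (d ^ 3), Nat.zero_le (d ^ 2)]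

end CfsgLib.DIX
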