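import Cfsg.Agent.Lib.DIX.Defs

/-! DIX/AN. If `t ∈ Y \ C` has `t ^ q = d ^ q` with `d ∈ C` then `t d⁻¹` works. Let `c` generate `C`,
`x y ≠ y x`, `x ^ q = c ^ i`, `y ^ q = c ^ j` (`i j : ℕ`). If `q ∣ i` take `t = x` (`x ∉ C` as `C` is central). Else pick
`k : ℕ` with `q ∣ j + k i`, `t = y x ^ k ∉ C` (it does not commute with `x`). With `u = x ^ k` and
`e = u y u⁻¹ y⁻¹ ∈ C` (central, `u y = e y u`): `e ^ q = 1` (`u ^ q` is central) and
`(y u) ^ n = e ^ (n.choose 2) y ^ n u ^ n` by induction. For `q` odd `e ^ (q.choose 2) = 1`; for `q = 2`,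
`e ^ 2 = 1` and `4 ∣ |C| = orderOf c` make `e = c ^ r` with `r` even. So `t ^ q = c ^ (q * _)`. -/

set_option autoImplicit false
set_option linter.unusedSectionVars false
set_option linter.unusedVariables false

namespace CfsgLib.DIX
open MulAction Subgroup

theorem an_pow1 {L : Type*} [Group L] {e y u : L} (h : u * y = e * y * u) (eu : Commute e u) (n : ℕ) :
    u ^ n * y = e ^ n * y * u ^ n := by
  induction n with
  | zero => simp
  | succ n ih =>
    calc u ^ (n + 1) * y = u * (u ^ n * y) := by rw [pow_succ', mul_assoc]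
      _ = (u * e ^ n) * y * u ^ n := by rw [ih]; group
      _ = e ^ n * (u * y) * u ^ n := by rw [← (eu.pow_left n).eq]; group
      _ = e ^ (n + 1) * y * u ^ (n + 1) := by rw [h, pow_succ, pow_succ']; group

theorem an_pow2 {L : Type*} [Group L] {e y u : L} (h : u * y = e * y * u) (eu : Commute e u)
    (ey : Commute e y) (n : ℕ) : (y * u) ^ n = e ^ (n.choose 2) * y ^ n * u ^ n := by
  induction n with
  | zero => simp
  | succ n ih =>
    have hc : (n + 1).choose 2 = n.choose 2 + n := by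
      rw [Nat.choose_succ_succ' n 1, Nat.choose_one_right, add_comm]
    calc (y * u) ^ (n + 1) = e ^ (n.choose 2) * y ^ n * (u ^ n * y) * u := by
          rw [pow_succ, ih]; group
      _ = e ^ (n.choose 2) * (y ^ n * e ^ n) * y * (u ^ n * u) := by
          rw [an_pow1 h eu n]; group
      _ = e ^ (n.choose 2) * e ^ n * (y ^ n * y) * (u ^ n * u) := by
          rw [← (ey.pow_pow n n).eq]; group
      _ = _ := by rw [hc, pow_add, pow_succ y, pow_succ u]

theorem an_red {L : Type*} [Group L] {q : ℕ} {C Y : Subgroup L} (hCY : C ≤ Y)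
    (hcent : ∀ c ∈ C, ∀ y ∈ Y, c * y = y * c) {t d : L} (tY : t ∈ Y) (tC : t ∉ C) (dC : d ∈ C)
    (h : t ^ q = d ^ q) : ∃ y ∈ Y, y ∉ C ∧ y ^ q = 1 := by
  refine ⟨t * d⁻¹, Y.mul_mem tY (Y.inv_mem (hCY dC)), fun hm => tC ?_, ?_⟩
  · simpa using C.mul_mem hm dC
  · have hc : Commute t d⁻¹ := (show Commute d t from hcent d dC t tY).symm.inv_right
    rw [hc.mul_pow, h, inv_pow, mul_inv_cancel]

theorem exists_noncentral {L : Type*} [Group L] [Finite L] {q : ℕ} (hq : q.Prime)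
    {C Y : Subgroup L} (hC : IsCyclic C) (hCY : C ≤ Y)
    (hcent : ∀ c ∈ C, ∀ y ∈ Y, c * y = y * c) (hpow : ∀ y ∈ Y, y ^ q ∈ C)
    (hcomm : ∀ x ∈ Y, ∀ y ∈ Y, x * y * x⁻¹ * y⁻¹ ∈ C)
    (hna : ∃ x ∈ Y, ∃ y ∈ Y, x * y ≠ y * x) (hbig : q ≠ 2 ∨ 4 ∣ Nat.card C) :
    ∃ y ∈ Y, y ∉ C ∧ y ^ q = 1 := by
  classical
  have : Fact q.Prime := ⟨hq⟩
  obtain ⟨⟨c, cC⟩, hc⟩ := IsCyclic.exists_generator (α := C)
  have hgen : ∀ d ∈ C, ∃ n : ℕ, c ^ n = d := by
    intro d hd
    have := hc ⟨d, hd⟩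
    rw [← mem_powers_iff_mem_zpowers] at this
    obtain ⟨n, hn⟩ := this
    exact ⟨n, by simpa using congrArg Subtype.val hn⟩
  have hord : orderOf c = Nat.card C := by
    rw [← orderOf_eq_card_of_forall_mem_zpowers hc]
    exact (Subgroup.orderOf_mk c cC).symm
  obtain ⟨x, xY, y, yY, hxy⟩ := hna
  obtain ⟨i, hi⟩ := hgen _ (hpow x xY)
  obtain ⟨j, hj⟩ := hgen _ (hpow y yY)
  by_cases hqi : q ∣ i
  · obtain ⟨m, rfl⟩ := hqi
    refine an_red hCY hcent xY (fun hx => hxy (hcent x hx y yY)) (C.pow_mem cC m) ?_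
    rw [← hi, ← pow_mul, mul_comm]
  obtain ⟨k, hk⟩ : ∃ k : ℕ, q ∣ j + i * k := by
    have h0 : (i : ZMod q) ≠ 0 := fun h => hqi ((ZMod.natCast_eq_zero_iff i q).1 h)
    refine ⟨(-(j : ZMod q) * (i : ZMod q)⁻¹).val, (ZMod.natCast_eq_zero_iff _ q).1 ?_⟩
    push_cast
    rw [ZMod.natCast_zmod_val]
    field_simp
    ring
  set u := x ^ k with hu
  have uY : u ∈ Y := Y.pow_mem xY k
  have eC := hcomm u uY y yY
  set e := u * y * u⁻¹ * y⁻¹ with he
  have h1 : u * y = e * y * u := by rw [he]; group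
  have eu : Commute e u := hcent e eC u uY
  have ey : Commute e y := hcent e eC y yY
  have eq1 : e ^ q = 1 := by
    have h2 := an_pow1 h1 eu q
    rw [hcent _ (hpow u uY) y yY, mul_assoc] at h2
    exact right_eq_mul.1 h2
  obtain ⟨m, hm⟩ : ∃ m : ℕ, e ^ (q.choose 2) = c ^ (q * m) := by
    by_cases h2 : q = 2
    · subst h2
      obtain ⟨r, hr⟩ := hgen e eC
      have h4 : 4 ∣ r * 2 := by
        refine (hbig.resolve_left (fun h => h rfl)).trans ?_
        rw [← hord, orderOf_dvd_iff_pow_eq_one, pow_mul, hr, eq1]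
      obtain ⟨m, hm⟩ : 2 ∣ r := by omega
      exact ⟨m, by rw [← hm, hr]; simp⟩
    · obtain ⟨m, hm⟩ : q ∣ q.choose 2 :=
        hq.dvd_choose_self (by norm_num) (lt_of_le_of_ne hq.two_le (Ne.symm h2))
      exact ⟨0, by rw [hm, pow_mul, eq1]; simp⟩
  obtain ⟨n, hn⟩ := hk
  refine an_red hCY hcent (Y.mul_mem yY uY) (fun ht => hxy ?_) (C.pow_mem cC (m + n)) ?_
  · have h2 := hcent _ ht x xY
    have h3 : Commute u x := (Commute.refl x).pow_left k
    rw [mul_assoc, h3.eq, ← mul_assoc, ← mul_assoc] at h2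
    exact (mul_right_cancel h2).symm
  · rw [an_pow2 h1 eu ey q, hm, hu, ← pow_mul x, mul_comm k q, pow_mul x, ← hi, ← hj, ← pow_mul,
      ← pow_mul, mul_assoc, ← pow_add, ← pow_add, hn]
    congr 1
    ring

end CfsgLib.DIX
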