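import Cfsg.Agent.Lib.DIX.Defs
import Cfsg.Agent.Lib.Tech.Invol

/-! DIX/AQ. The quaternion case. `Z = zpowers z = {1, z} ≤ Y ≤ Q`. Every `a ∈ Y \ Z` has `a ^ 2 = z`. If
`a, b, a b ∈ Y \ Z` then `a b ≠ b a` (else `z = (a b) ^ 2 = z z = 1`). Fix `x y ≠ y x` in `Y`. Every `w ∈ Y` lies in
`Z, x Z, y Z` or `x y Z`: otherwise `x w ≠ w x`, so `x` commutes with `y w` (both commutators are `z`), while
`x, y w, x y w ∉ Z`. For `g ∈ Q` the commutators `g x g⁻¹ x⁻¹`, `g y g⁻¹ y⁻¹` lie in `{1, z}`, so for one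
`t ∈ {1, x, y, x y}` the element `t⁻¹ g` commutes with `x` and `y`, hence lies in `E = Q ⊓ centralizer Y`.
`E` is normalized by `Q` (`Y` is, by `hY`), and `E ≤ Z`: otherwise the image of `E` in the 2-group `Q / Z` is a
non-trivial normal subgroup and contains a central element of order 2 (e.g. fixed points of `Q` on it,
or `IsPGroup` center lemma), whose preimage `e` lies in `Y` by `hY` and in `Z` by `hZ`. -/

set_option autoImplicit false
set_option linter.unusedSectionVars false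
set_option linter.unusedVariables false

namespace CfsgLib.DIX
open MulAction Subgroup

theorem le_of_q8 {L : Type*} [Group L] [Finite L] {Q Y : Subgroup L} (hQ : IsPGroup 2 Q) {z : L}
    (hz : orderOf z = 2) (hzQ : z ∈ Q) (hzc : ∀ x ∈ Q, z * x = x * z)
    (hY : ∀ y : L, y ∈ Y ↔ y ∈ Q ∧ y ^ 2 ∈ zpowers z ∧ ∀ x ∈ Q, x * y * x⁻¹ * y⁻¹ ∈ zpowers z)
    (hZ : ∀ y ∈ Y, (∀ x ∈ Y, x * y = y * x) → y ∈ zpowers z)
    (hno : ∀ y ∈ Y, y ^ 2 = 1 → y ∈ zpowers z)
    (hna : ∃ x ∈ Y, ∃ y ∈ Y, x * y ≠ y * x) : Q ≤ Y := by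
  classical
  have z1 : z ≠ 1 := Tech.ne_one_of_orderOf_two hz
  have zz : z * z = 1 := by rw [← pow_two, ← hz, pow_orderOf_eq_one]
  have hm : ∀ a, a ∈ zpowers z → a = 1 ∨ a = z := fun a ha => by
    obtain ⟨n, hn, rfl⟩ := Finset.mem_image.1 ((mem_zpowers_iff_mem_range_orderOf).1 ha)
    rw [hz, Finset.mem_range] at hn
    interval_cases n <;> simp
  have YQ : Y ≤ Q := fun y h => ((hY y).1 h).1
  have zY : z ∈ Y := (hY z).2 ⟨hzQ, pow_mem (mem_zpowers z) 2, fun x hx => by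
    rw [← hzc x hx, mul_inv_cancel_right, mul_inv_cancel]; exact one_mem _⟩
  have ZY : zpowers z ≤ Y := zpowers_le.2 zY
  have Zc : ∀ a ∈ zpowers z, ∀ g ∈ Q, a * g = g * a := fun a ha g hg => by
    rcases hm a ha with rfl | rfl
    · simp
    · exact hzc g hg
  have sq : ∀ a ∈ Y, a ∉ zpowers z → a * a = z := fun a ha h => by
    rw [← pow_two]
    exact (hm _ ((hY a).1 ha).2.1).resolve_left fun e => h (hno a ha e)
  have cj : ∀ g ∈ Q, ∀ w ∈ Y, g * w * g⁻¹ = w ∨ g * w * g⁻¹ = z * w := fun g hg w hw =>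
    (hm _ (((hY w).1 hw).2.2 g hg)).imp (fun e => mul_inv_eq_one.1 e) fun e => mul_inv_eq_iff_eq_mul.1 e
  have cjY : ∀ g ∈ Q, ∀ w ∈ Y, g * w * g⁻¹ ∈ Y := fun g hg w hw => by
    rcases cj g hg w hw with e | e <;> rw [e]
    exacts [hw, mul_mem zY hw]
  have hE : ∀ e ∈ Q, (∀ w ∈ Y, w * e = e * w) → e ∈ zpowers z := by
    intro e he hc
    by_contra hn
    have : ((zpowers z).subgroupOf Q).Normal := ⟨fun a ha g => by
      rw [mem_subgroupOf] at ha ⊢
      push_cast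
      rwa [← Zc _ ha _ g.2, mul_inv_cancel_right]⟩
    have : ((centralizer (Y : Set L)).subgroupOf Q).Normal := ⟨fun a ha g => by
      rw [mem_subgroupOf] at ha ⊢
      intro w hw
      have := ha _ (cjY _ (inv_mem g.2) w hw)
      push_cast
      calc w * (g * a * (g : L)⁻¹) = g * ((g : L)⁻¹ * w * (g : L)⁻¹⁻¹ * a) * (g : L)⁻¹ := by group
        _ = _ := by rw [this]; group⟩
    have := Normal.map this _ (QuotientGroup.mk'_surjective ((zpowers z).subgroupOf Q))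
    obtain ⟨_, ⟨r, hr, rfl⟩, o, c⟩ := Tech.exists_mem_center_of_normalized
      ((hQ.to_quotient ((zpowers z).subgroupOf Q)).to_subgroup ⊤)
      (N := ((centralizer (Y : Set L)).subgroupOf Q).map (QuotientGroup.mk' _)) le_top
      le_normalizer_of_normal fun k => hn ((QuotientGroup.eq_one_iff (N := (zpowers z).subgroupOf Q) ⟨e, he⟩).1
        (k.le (mem_map_of_mem _ (show _ ∈ (centralizer (Y : Set L)).subgroupOf Q from hc))))
    refine Tech.ne_one_of_orderOf_two o ((QuotientGroup.eq_one_iff r).2 (hZ r ((hY r).2 ⟨r.2, ?_, fun v hv => ?_⟩) hr))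
    · refine (QuotientGroup.eq_one_iff (N := (zpowers z).subgroupOf Q) (r ^ 2)).1 ?_
      rw [QuotientGroup.mk_pow, ← o]
      exact pow_orderOf_eq_one _
    · refine (QuotientGroup.eq_one_iff (N := (zpowers z).subgroupOf Q)
        (⟨v, hv⟩ * r * ⟨v, hv⟩⁻¹ * r⁻¹)).1 ?_
      have := c (QuotientGroup.mk ⟨v, hv⟩) (mem_top _)
      rw [QuotientGroup.mk'_apply] at this
      simp only [QuotientGroup.mk_mul, QuotientGroup.mk_inv, this, mul_inv_cancel_right, mul_inv_cancel]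
  obtain ⟨x, hx, y, hy, hxy⟩ := hna
  have xy : x * y * x⁻¹ = z * y := (cj x (YQ hx) y hy).resolve_left fun e => hxy (mul_inv_eq_iff_eq_mul.1 e)
  have yx : y * x * y⁻¹ = z * x := (cj y (YQ hy) x hx).resolve_left fun e =>
    hxy (mul_inv_eq_iff_eq_mul.1 e).symm
  have dec : ∀ g ∈ Q, ∃ t ∈ Y, (∀ e, Commute e x → Commute e y → Commute e t) ∧
      Commute (t⁻¹ * g) x ∧ Commute (t⁻¹ * g) y := fun g hg => by
    have k : ∀ t w : L, t * w * t⁻¹ = g * w * g⁻¹ → Commute (t⁻¹ * g) w := fun t w e => by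
      change t⁻¹ * g * w = w * (t⁻¹ * g)
      calc t⁻¹ * g * w = t⁻¹ * (g * w * g⁻¹) * g := by group
        _ = _ := by rw [← e]; group
    rcases cj g hg x hx with e | e <;> rcases cj g hg y hy with e' | e'
    · exact ⟨1, one_mem _, fun _ _ _ => Commute.one_right _, k _ _ (by simp [e]), k _ _ (by simp [e'])⟩
    · exact ⟨x, hx, fun _ h _ => h, k _ _ (by simp [e]), k _ _ (xy.trans e'.symm)⟩
    · exact ⟨y, hy, fun _ _ h => h, k _ _ (yx.trans e.symm), k _ _ (by simp [e'])⟩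
    · refine ⟨x * y, mul_mem hx hy, fun _ h h' => h.mul_right h', k _ _ ?_, k _ _ ?_⟩
      · rw [e, hzc x (YQ hx), show x * y * x * (x * y)⁻¹ = x * (y * x * y⁻¹) * x⁻¹ by group, yx]; group
      · rw [e', ← xy]; group
  have cY : ∀ u ∈ Y, Commute u x → Commute u y → u ∈ zpowers z := fun u hu h1 h2 => by
    by_contra hn
    have k1 := sq x hx fun e => hxy (Zc x e y (YQ hy))
    have k2 := sq _ (mul_mem hx hu) fun e => hxy (mul_right_cancel (b := u) (by
      rw [mul_assoc, ← h2.eq, ← mul_assoc, Zc _ e y (YQ hy), mul_assoc]))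
    rw [show x * u * (x * u) = x * (u * x) * u by group, h1.eq, ← mul_assoc, k1, mul_assoc, sq u hu hn, zz] at k2
    exact z1 k2.symm
  intro g hg
  obtain ⟨t, ht, -, h1, h2⟩ := dec g hg
  have he : t⁻¹ * g ∈ Q := mul_mem (inv_mem (YQ ht)) hg
  refine (mul_mem_cancel_left (inv_mem ht)).1 (ZY (hE _ he fun w hw => ?_))
  obtain ⟨s, hs, k, k1, k2⟩ := dec w (YQ hw)
  have k3 : Commute (t⁻¹ * g) (s⁻¹ * w) := (Zc _ (cY _ (mul_mem (inv_mem hs) hw) k1 k2) _ he).symm
  simpa using ((k _ h1 h2).mul_right k3).symm.eq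

end CfsgLib.DIX
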