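import Cfsg.Agent.Lib.DIX.AB
import Cfsg.Agent.Lib.DIX.AN
import Cfsg.Agent.Lib.DIX.AQ

/-! DIX/AX. `V` is non-trivial, `C` is cyclic (`SR.isCyclic`) and central in `Y`. `Y ⊓ centralizer Y` is normal,
commutative, `≤ Q` and contains `C`, so by `hmax` an element of `Y` commuting with `Y` lies in `C`; by `nle`, `Y` is
not commutative, and a commutator `e = x y x⁻¹ y⁻¹ ∈ C` of elements of `Y` has `e ^ q = 1`
(`x y ^ q x⁻¹ = (e y) ^ q = e ^ q y ^ q`, `y ^ q ∈ C` central). Take `z` = a non-trivial such commutator (order `q`); in the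
cyclic group `C` every `e` with `e ^ q = 1` lies in `zpowers z`. `zfpf`, `fixp` from `hC` (`y ^ q ∈ C` fixes `v`; `y ∉ C`).
`ex`: if some `y ∈ Y \ C` has `y ^ q = 1`, then `B = closure {y, z} ≤ Y` is commutative and not cyclic (else
`y ∈ zpowers z ≤ C`), so not `SR` (`SR.isCyclic`), which is `ex`. Such a `y` exists if `q ≠ 2 ∨ 4 ∣ |C|`
(`exists_noncentral`). Otherwise `q = 2`, `|C| = 2`, `C = zpowers z`, `z` is central in `L` (`C` normal), and if no such
`y` exists `le_of_q8` gives `Q ≤ Y`, so `g` itself witnesses `ex`. -/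

set_option autoImplicit false
set_option linter.unusedSectionVars false
set_option linter.unusedVariables false

namespace CfsgLib.DIX
open MulAction Subgroup

variable {L V : Type*} [Group L] [CommGroup V] [MulDistribMulAction L V] [Finite L] [Finite V]
  {K : Subgroup L}

theorem ax_mem_zpowers {q : ℕ} (hq : q.Prime) {C : Subgroup L} (hC : IsCyclic C) {z e : L} (hz : z ∈ C)
    (he : e ∈ C) (ho : orderOf z = q) (h : e ^ q = 1) : e ∈ zpowers z := by
  classical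
  have := Fintype.ofFinite C
  have h1 := IsCyclic.card_pow_eq_one_le (α := C) hq.pos
  have h2 : (zpowers (⟨z, hz⟩ : C) : Set C).toFinset = Finset.univ.filter fun a : C => a ^ q = 1 := by
    refine Finset.eq_of_subset_of_card_le (fun a ha => ?_) (h1.trans ?_)
    · obtain ⟨n, rfl⟩ := mem_zpowers_iff.1 (Set.mem_toFinset.1 ha)
      refine Finset.mem_filter.2 ⟨Finset.mem_univ _, ?_⟩
      rw [← zpow_natCast, ← zpow_mul, mul_comm, zpow_mul, zpow_natCast,
        show (⟨z, hz⟩ : C) ^ q = 1 from Subtype.ext (ho ▸ pow_orderOf_eq_one z), one_zpow]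
    · rw [Set.toFinset_card, ← Nat.card_eq_fintype_card, SetLike.coe_sort_coe, Nat.card_zpowers,
        ← Subgroup.orderOf_coe, ho]
  have h3 : (⟨e, he⟩ : C) ∈ (zpowers (⟨z, hz⟩ : C) : Set C).toFinset :=
    h2 ▸ Finset.mem_filter.2 ⟨Finset.mem_univ _, Subtype.ext h⟩
  obtain ⟨n, hn⟩ := mem_zpowers_iff.1 (Set.mem_toFinset.1 h3)
  exact mem_zpowers_iff.2 ⟨n, congrArg Subtype.val hn⟩

theorem YD.es {q : ℕ} (hq : q.Prime) {Q C Y : Subgroup L} (h : YD Q C Y q) (hQ : IsPGroup q Q)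
    (hQK : Q ≤ K) (hCn : C.Normal) (hCQ : C ≤ Q) (hc : ∀ a ∈ C, ∀ b ∈ C, a * b = b * a)
    (hC : SR V C)
    (hmax : ∀ B : Subgroup L, B ≤ Q → B.Normal → (∀ a ∈ B, ∀ b ∈ B, a * b = b * a) → C ≤ B → B ≤ C)
    {g : L} (hg : g ∈ Q) (hg1 : g ≠ 1) {v : V} (hv : v ≠ 1) (hgv : g • v = v) :
    ∃ z : L, ES V K Y q z := by
  classical
  have := Fact.mk hq
  have : Nontrivial V := ⟨v, 1, hv⟩
  have cyc := hC.isCyclic hc
  have YQ : Y ≤ Q := fun y hy => ((h.mem y).1 hy).1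
  have cY : ∀ c ∈ C, ∀ y ∈ Y, c * y = y * c := fun c hc y hy => ((h.mem y).1 hy).2.1 c hc
  have pY : ∀ y ∈ Y, y ^ q ∈ C := fun y hy => ((h.mem y).1 hy).2.2.1
  have mY : ∀ x ∈ Y, ∀ y ∈ Y, x * y * x⁻¹ * y⁻¹ ∈ C := fun x hx y hy =>
    ((h.mem y).1 hy).2.2.2 x (YQ hx) fun c hc => cY c hc x hx
  have hn := h.normal
  have zY : ∀ y ∈ Y, (∀ x ∈ Y, x * y = y * x) → y ∈ C := fun y hy e =>
    hmax (Y ⊓ centralizer (Y : Set L)) (inf_le_left.trans YQ) inferInstance (fun a ha b hb => hb.2 a ha.1)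
      (fun c hc => ⟨h.le hc, fun x hx => (cY c hc x hx).symm⟩) ⟨hy, e⟩
  have na : ∃ x ∈ Y, ∃ y ∈ Y, x * y ≠ y * x := by
    by_contra hn
    push Not at hn
    exact h.nle fun y hy => zY y hy fun x hx => hn x hx y hy
  have eq : ∀ x ∈ Y, ∀ y ∈ Y, (x * y * x⁻¹ * y⁻¹) ^ q = 1 := fun x hx y hy => by
    have c : Commute (x * y * x⁻¹ * y⁻¹) y := cY _ (mY x hx y hy) y hy
    have e := c.mul_pow q
    rw [inv_mul_cancel_right, conj_pow, ← cY _ (pY y hy) x hx, mul_inv_cancel_right] at e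
    exact right_eq_mul.1 e
  obtain ⟨a, ha, b, hb, ab⟩ := id na
  obtain ⟨z, hz⟩ : ∃ z, z = a * b * a⁻¹ * b⁻¹ := ⟨_, rfl⟩
  have zC : z ∈ C := hz ▸ mY a ha b hb
  have z1 : z ≠ 1 := fun e => ab (by rwa [hz, mul_inv_eq_one, mul_inv_eq_iff_eq_mul] at e)
  have zo : orderOf z = q := orderOf_eq_prime (hz ▸ eq a ha b hb) z1
  have zp : ∀ e ∈ C, e ^ q = 1 → e ∈ zpowers z := fun e he => ax_mem_zpowers hq cyc zC he zo
  refine ⟨z, hq, hn, YQ.trans hQK, h.le zC, zo, cY z zC, fun w hw => (hC z zC w hw).resolve_left z1,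
    fun x hx y hy => zp _ (mY x hx y hy) (eq x hx y hy), fun y hy y1 w w1 e => ⟨(hC _ (pY y hy) w
      (pow_mem (show y ∈ stabilizer L w from e) q)).resolve_right w1, ?_⟩, ?_⟩
  · by_contra hn
    push Not at hn
    exact (hC y (zY y hy hn) w e).elim y1 w1
  by_cases ex : ∃ y ∈ Y, y ∉ C ∧ y ^ q = 1
  · obtain ⟨y, hy, yC, yq⟩ := ex
    by_contra hn
    push Not at hn
    have B : closure {y, z} ≤ Y := (closure_le _).2 (by
      rintro _ (rfl | rfl)
      exacts [hy, h.le zC])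
    have cm : IsMulCommutative (closure {y, z} : Subgroup L) := isMulCommutative_closure (by
      rintro _ (rfl | rfl) _ (rfl | rfl)
      exacts [rfl, (cY _ zC _ hy).symm, cY _ zC _ hy, rfl])
    have cy := SR.isCyclic (V := V) (C := closure {y, z})
      (fun c hc w e => or_iff_not_imp_left.2 fun c1 => by_contra fun w1 => hn c (B hc) c1 w w1 e)
      fun a ha b hb => congrArg Subtype.val (mul_comm' (⟨a, ha⟩ : (closure {y, z} : Subgroup L)) ⟨b, hb⟩)
    exact yC (zpowers_le.2 zC (ax_mem_zpowers hq cy (subset_closure (by simp)) (subset_closure (by simp)) zo yq))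
  have big : ¬ (q ≠ 2 ∨ 4 ∣ Nat.card C) := fun hb => ex (exists_noncentral hq cyc h.le cY pY mY na hb)
  push Not at big
  obtain ⟨rfl, h4⟩ := big
  have eC : zpowers z = C := by
    obtain ⟨k, hk⟩ := IsPGroup.iff_card.1 (hQ.to_le hCQ)
    refine eq_of_le_of_card_ge (zpowers_le.2 zC) ?_
    rw [Nat.card_zpowers, zo, hk]
    rcases k with _ | _ | k
    · norm_num
    · norm_num
    · exact absurd (hk ▸ ⟨2 ^ k, by ring⟩) h4
  have z2 : ∀ c ∈ C, c = 1 ∨ c = z := fun c hc => by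
    rw [← eC, mem_zpowers_iff_mem_range_orderOf, zo] at hc
    obtain ⟨n, hn, rfl⟩ := Finset.mem_image.1 hc
    have := Finset.mem_range.1 hn
    interval_cases n <;> simp
  have zc : ∀ x, z * x = x * z := fun x => by
    rcases z2 _ (hCn.conj_mem z zC x) with e | e
    · exact absurd (conj_eq_one_iff.1 e) z1
    · exact (mul_inv_eq_iff_eq_mul.1 e).symm
  have cc : ∀ x, ∀ c ∈ C, c * x = x * c := fun x c hc => by
    rcases z2 c hc with rfl | rfl
    exacts [by simp, zc x]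
  refine ⟨g, le_of_q8 hQ zo (hCQ zC) (fun x _ => zc x) (fun y => ?_) (eC ▸ zY)
    (fun y hy e => eC ▸ by_contra fun n => ex ⟨y, hy, n, e⟩) na hg, hg1, v, hv, hgv⟩
  rw [h.mem, eC]
  exact ⟨fun k => ⟨k.1, k.2.2.1, fun x hx => k.2.2.2 x hx (cc x)⟩,
    fun k => ⟨k.1, cc y, k.2.1, fun x hx _ => k.2.2 x hx⟩⟩

end CfsgLib.DIX
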