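import Cfsg.Agent.Lib.DIX.Defs

/-! DIX/AY. `E = Q ⊓ centralizer C` is normal in `L`. In `L ⧸ C` let `Ē = E.map (mk' C)`, a non-trivial normal
`q`-subgroup; `Y = E ⊓ comap (mk' C) {ȳ ∈ Ē ⊓ centralizer Ē | ȳ ^ q = 1}` (or define the carrier by the right side of
`mem` and check closure in the quotient, where the two elements commute). `nle`: the center of the
non-trivial `q`-group `Ē` has an element of order `q` (`IsPGroup.center_nontrivial`). -/

set_option autoImplicit false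
set_option linter.unusedSectionVars false
set_option linter.unusedVariables false

namespace CfsgLib.DIX
open MulAction Subgroup

theorem exists_YD {L : Type*} [Group L] [Finite L] {q : ℕ} (hq : q.Prime) {Q C : Subgroup L}
    (hQn : Q.Normal) (hQ : IsPGroup q Q) (hCn : C.Normal) (hCQ : C ≤ Q)
    (hc : ∀ a ∈ C, ∀ b ∈ C, a * b = b * a)
    (hx : ∃ x ∈ Q, (∀ c ∈ C, c * x = x * c) ∧ x ∉ C) : ∃ Y : Subgroup L, YD Q C Y q := by
  haveI := Fact.mk hq
  let π := QuotientGroup.mk' C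
  have hπ : ∀ g, π g = 1 ↔ g ∈ C := QuotientGroup.eq_one_iff
  have hcm : ∀ a b, a * b * a⁻¹ * b⁻¹ ∈ C ↔ π a * π b = π b * π a := fun a b => by
    rw [← hπ, map_mul, map_mul, map_mul, map_inv, map_inv, mul_inv_eq_one, mul_inv_eq_iff_eq_mul]
  let E : Subgroup L := Q ⊓ centralizer (C : Set L)
  have hE : ∀ y, y ∈ E ↔ y ∈ Q ∧ ∀ c ∈ C, c * y = y * c := fun y => Iff.rfl
  haveI hEn : E.Normal := inferInstance
  let Y : Subgroup L :=
    { carrier := {y | y ∈ E ∧ π y ^ q = 1 ∧ ∀ x ∈ E, π x * π y = π y * π x}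
      one_mem' := ⟨E.one_mem, by simp, fun x _ => by simp⟩
      mul_mem' := fun {a b} ha hb => ⟨E.mul_mem ha.1 hb.1, by
        rw [map_mul, Commute.mul_pow (hb.2.2 a ha.1), ha.2.1, hb.2.1, one_mul], fun x hx => by
        rw [map_mul, ← mul_assoc, ha.2.2 x hx, mul_assoc, hb.2.2 x hx, mul_assoc]⟩
      inv_mem' := fun {a} ha => ⟨E.inv_mem ha.1, by rw [map_inv, inv_pow, ha.2.1, inv_one],
        fun x hx => by
          rw [map_inv]
          exact (show Commute (π x) (π a) from ha.2.2 x hx).inv_right.eq⟩ }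
  have hY : ∀ y, y ∈ Y ↔ y ∈ E ∧ π y ^ q = 1 ∧ ∀ x ∈ E, π x * π y = π y * π x := fun y => Iff.rfl
  refine ⟨Y, ⟨fun y hy g => ⟨hEn.conj_mem y hy.1 g, ?_, fun x hx => ?_⟩⟩, fun y => ?_, fun c h => ?_, ?_⟩
  · rw [map_mul, map_mul, map_inv, conj_pow, hy.2.1, mul_one, mul_inv_cancel]
  · have h1 := hy.2.2 _ (hEn.conj_mem x hx g⁻¹)
    simp only [map_mul, map_inv, inv_inv] at h1 ⊢
    calc _ = π g * ((π g)⁻¹ * π x * π g * π y) * (π g)⁻¹ := by group
      _ = _ := by rw [h1]; group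
  · rw [hY, hE, ← map_pow, hπ, and_assoc]
    refine and_congr_right fun _ => and_congr_right fun _ => and_congr_right fun _ =>
      ⟨fun h x h1 h2 => (hcm _ _).2 (h x ⟨h1, h2⟩), fun h x hx => (hcm _ _).1 (h x hx.1 hx.2)⟩
  · exact ⟨⟨hCQ h, fun d hd => hc d hd c h⟩, by rw [(hπ c).2 h, one_pow], fun x _ => by
      rw [(hπ c).2 h, mul_one, one_mul]⟩
  · obtain ⟨x, h1, h2, h3⟩ := hx
    have hp : IsPGroup q (E.map π) := (hQ.to_le (inf_le_left : E ≤ Q)).map π
    haveI : Nontrivial (E.map π) :=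
      ⟨⟨⟨π x, x, ⟨h1, h2⟩, rfl⟩, 1, fun h => h3 ((hπ x).1 (congrArg Subtype.val h))⟩⟩
    haveI := hp.center_nontrivial
    obtain ⟨k, hk, hk'⟩ := (hp.to_subgroup (center (E.map π))).nontrivial_iff_card.1 inferInstance
    obtain ⟨z, hz⟩ := exists_prime_orderOf_dvd_card' (G := center (E.map π)) q
      (hk' ▸ dvd_pow_self q hk.ne')
    obtain ⟨y, hy, e⟩ := z.1.2
    intro hle
    have h4 : y ∈ Y := ⟨hy, by
      rw [e]; exact congrArg (fun w : center (E.map π) => (w.1 : L ⧸ C)) (hz ▸ pow_orderOf_eq_one z),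
      fun x hx => by
        rw [e]; exact congrArg Subtype.val (mem_center_iff.1 z.2 ⟨π x, x, hx, rfl⟩)⟩
    have h5 : z = 1 := Subtype.ext (Subtype.ext (e.symm.trans ((hπ y).2 (hle h4))))
    rw [h5, orderOf_one] at hz
    exact hq.one_lt.ne hz

end CfsgLib.DIX
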