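import Cfsg.Agent.Lib.DIX.AA
import Cfsg.Agent.Lib.DIX.AC
import Cfsg.Agent.Lib.DIX.AO
import Cfsg.Agent.Lib.DIX.AE
import Cfsg.Agent.Lib.DIX.AY
import Cfsg.Agent.Lib.DIX.AX
import Cfsg.Agent.Lib.LAE.Sylow

/-! DIX/AM. `main'`: by `bound_of_not_irr` assume `Irr`; by `caseA` assume every normal commutative `B ≤ Q` is `SR`.
Take `C` maximal among the normal commutative subgroups of `L` inside `Q` (finite; `⊥` is one); it is `SR` and cyclic.
If some `x ∈ Q \ C` centralizes `C`: `exists_YD`, `YD.es`, then `ES.even` / `ES.odd`. Otherwise `caseB1`: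
`l g l⁻¹ g⁻¹ ∈ Q` centralizes `C` (with `C = ⟨c⟩`, `l c l⁻¹ = c ^ i`, `g c g⁻¹ = c ^ j` commute; or `MulAut` of a cyclic
group is commutative), so lies in `C`; and `g` is not central, else `zpowers g` is normal commutative `≤ Q`, so `SR`.
`main`: replace `g` by a power of prime order `q`; `g ∈ K` by `fpf`; `Q` = a Sylow `q`-subgroup of `K` containing `g`,
`N = normalizer Q`, `K ⊔ N = ⊤` (Frattini, `Sylow.normalizer_sup_eq_top`), apply `main'` to the group `↥N` with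
`K.subgroupOf N` (index `= K.relIndex N = K.relIndex (K ⊔ N) = K.index`) and `Q.subgroupOf N`. -/

set_option autoImplicit false
set_option linter.unusedSectionVars false
set_option linter.unusedVariables false

namespace CfsgLib.DIX
open MulAction Subgroup

variable {L V : Type*} [Group L] [CommGroup V] [MulDistribMulAction L V] [Finite L] [Finite V]
  {K : Subgroup L}

theorem am_comm {C : Subgroup L} [hn : C.Normal] (hC : IsCyclic C) (l g : L) {c : L} (hc : c ∈ C) :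
    c * (l * g * l⁻¹ * g⁻¹) = l * g * l⁻¹ * g⁻¹ * c := by
  have k : ∀ l : L, ∃ i : ℤ, ∀ c ∈ C, l * c * l⁻¹ = c ^ i := fun l => by
    obtain ⟨i, hi⟩ := MonoidHom.map_cyclic (MulAut.conjNormal (H := C) l).toMonoidHom
    exact ⟨i, fun c hc => congrArg Subtype.val (hi ⟨c, hc⟩)⟩
  obtain ⟨i, hi⟩ := k l
  obtain ⟨j, hj⟩ := k g
  obtain ⟨d, hd, rfl⟩ : ∃ d ∈ C, c = g * (l * d * l⁻¹) * g⁻¹ :=
    ⟨(g * l)⁻¹ * c * (g * l)⁻¹⁻¹, hn.conj_mem _ hc _, by group⟩
  have e : g * (l * d * l⁻¹) * g⁻¹ = l * (g * d * g⁻¹) * l⁻¹ := by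
    rw [hj _ (hn.conj_mem _ hd _), hi _ (hn.conj_mem _ hd _), hi _ hd, hj _ hd, ← zpow_mul, ← zpow_mul, mul_comm]
  calc _ = l * (g * d * g⁻¹) * l⁻¹ * (l * g * l⁻¹ * g⁻¹) := by rw [e]
    _ = _ := by group

theorem Aff.main' (h : Aff L V K) {q : ℕ} (hq : q.Prime) {Q : Subgroup L} (hQn : Q.Normal)
    (hQ : IsPGroup q Q) (hQK : Q ≤ K) {g : L} (hgQ : g ∈ Q) (hg : g ≠ 1) {v : V} (hv : v ≠ 1)
    (hgv : g • v = v) : (K.index + 1) ^ 2 ≤ Nat.card V := by
  by_cases hi : Irr L V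
  swap
  · exact h.bound_of_not_irr hi
  by_cases hA : ∀ B : Subgroup L, B.Normal → B ≤ Q → (∀ a ∈ B, ∀ b ∈ B, a * b = b * a) → SR V B
  swap
  · push Not at hA
    obtain ⟨B, h1, h2, h3, h4⟩ := hA
    exact h.caseA hi h1 (h2.trans hQK) h3 h4
  obtain ⟨C, ⟨hCn, hCQ, hc⟩, hmax⟩ := Set.Finite.exists_maximal (s := {B : Subgroup L | B.Normal ∧ B ≤ Q ∧
    ∀ a ∈ B, ∀ b ∈ B, a * b = b * a}) (Set.toFinite _) ⟨⊥, inferInstance, bot_le, by simp⟩
  have hC := hA C hCn hCQ hc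
  haveI : Nontrivial V := nontrivial_of_ne _ _ hv
  by_cases hx : ∃ x ∈ Q, (∀ c ∈ C, c * x = x * c) ∧ x ∉ C
  · obtain ⟨Y, hY⟩ := exists_YD hq hQn hQ hCn hCQ hc hx
    obtain ⟨z, hz⟩ := hY.es hq hQ hQK hCn hCQ hc hC (fun B h1 h2 h3 h4 => hmax ⟨h2, h1, h3⟩ h4) hgQ hg hv hgv
    by_cases h2 : q = 2
    · subst h2; exact hz.even h
    · exact hz.odd h h2
  push Not at hx
  refine h.caseB1 (hCQ.trans hQK) hC hv hgv (fun l => hx _ (mul_mem (hQn.conj_mem _ hgQ _) (inv_mem hgQ))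
    fun c hc' => am_comm (hC.isCyclic hc) l g hc') ?_
  by_contra hz
  push Not at hz
  have h1 : (zpowers g).Normal := ⟨by
    rintro _ ⟨i, rfl⟩ l
    rw [((show Commute l g from hz l).zpow_right i).eq, mul_inv_cancel_right]
    exact ⟨i, rfl⟩⟩
  rcases hA _ h1 (zpowers_le.2 hgQ) (by
    rintro _ ⟨i, rfl⟩ _ ⟨j, rfl⟩
    exact zpow_mul_comm g i j) g (mem_zpowers g) v hgv with e | e
  exacts [hg e, hv e]

theorem Aff.main (h : Aff L V K) {g : L} (hg : g ≠ 1) {v : V} (hv : v ≠ 1) (hgv : g • v = v) :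
    (K.index + 1) ^ 2 ≤ Nat.card V := by
  haveI := h.normal
  obtain ⟨q, hq, hd⟩ := Nat.exists_prime_and_dvd (n := orderOf g) (by rwa [Ne, orderOf_eq_one_iff])
  haveI := Fact.mk hq
  have ho : orderOf (g ^ (orderOf g / q)) = q := orderOf_pow_orderOf_div (orderOf_pos g).ne' hd
  have hv' : g ^ (orderOf g / q) • v = v := pow_mem (show g ∈ stabilizer L v from hgv) _
  generalize g ^ (orderOf g / q) = x at ho hv'
  have hxK : x ∈ K := by
    by_contra hn
    exact hv (h.fpf x hn v hv')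
  have hx1 : x ≠ 1 := by
    rintro rfl
    exact hq.one_lt.ne (orderOf_one.symm.trans ho)
  obtain ⟨Q, hQ, hle⟩ := LAE.exists_isSylowIn_ge (p := q) (Q := zpowers x) (H := K)
    (IsPGroup.of_card (n := 1) (by rw [Nat.card_zpowers, ho, pow_one])) (zpowers_le.2 hxK)
  have hxQ : x ∈ Q := hle (mem_zpowers x)
  have h' : Aff (normalizer (Q : Set L)) V (K.subgroupOf _) := ⟨inferInstance,
    fun g hg => Subtype.ext (h.faith g hg), fun g hg => h.fpf g hg⟩
  have := h'.main' hq (Q := Q.subgroupOf _) normal_in_normalizer hQ.isPGroup.comap_subtype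
    (comap_mono hQ.le) (g := ⟨x, le_normalizer hxQ⟩) hxQ (fun e => hx1 (congrArg Subtype.val e)) hv hv'
  have e : normalizer (Q : Set L) ⊔ K = ⊤ := eq_top_iff.2 fun y _ => by
    obtain ⟨a, ha, b, hb, rfl⟩ := hQ.frattini' (x := y) (by rw [normalizer_eq_top]; trivial)
    exact mul_mem_sup ha hb
  rwa [← relIndex, ← relIndex_sup_right, e, relIndex_top_right] at this

end CfsgLib.DIX
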