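import Cfsg.Agent.Lib.DIX.AB
import Cfsg.Agent.S3549

/-! DIX/IMP.
* `fix_mem`: count the pairs `(y, b) ∈ Y × B` with `x • y • b = b`. For fixed `b`, `x⁻¹ • b ∈ B` (`x` permutes the finite
  set `B`), so there are `|Y ⊓ stab b| = |Y| / |B|` such `y`; total `|Y|`. For fixed `y` there is at most one `b`
  (`x y ∉ D`, `one`). So every `y`, in particular `y = 1`, has one.
* `derSub_le`: `fix_mem` with `Y = D`, `B = univ`. `index_dvd`: `index_dvd_of_le` and
  `CfsgLib.Recog.index_derSub_dvd_card_sub_one`.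
* `imp`: `Ω` is non-empty (else primitive); `D.index ≤ (derSub G Ω).index` and `Cfsg.Agent.S3549.result`. -/

set_option autoImplicit false
set_option linter.unusedSectionVars false
set_option linter.unusedVariables false

namespace CfsgLib.DIX
open MulAction Subgroup

variable {G Ω : Type*} [Group G] [MulAction G Ω] [Finite G] [Finite Ω] {D : Subgroup G}

theorem Dat.pretrans (h : Dat G Ω D) : IsPretransitive G Ω := by
  exact ⟨fun a b => let ⟨d, _, e⟩ := h.trans a b; ⟨d, e⟩⟩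

theorem Dat.faithful (h : Dat G Ω D) : FaithfulSMul G Ω := by
  exact ⟨fun {g k} e => inv_mul_eq_one.1 (h.faith _ fun a => by rw [mul_smul, ← e, inv_smul_smul])⟩

theorem Dat.fix_mem (h : Dat G Ω D) {Y : Subgroup G} (hY : Y ≤ D) {B : Set Ω} (hB : B.Nonempty)
    (hYB : ∀ y ∈ Y, ∀ b ∈ B, y • b ∈ B) (htr : ∀ a ∈ B, ∀ b ∈ B, ∃ y ∈ Y, y • a = b)
    {x : G} (hx : x ∉ D) (hxB : ∀ b ∈ B, x • b ∈ B) : ∃ b ∈ B, x • b = b := by
  obtain ⟨b₀, h0⟩ := hB
  choose! t t1 t2 using htr b₀ h0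
  choose! c c1 c2 using fun b hb => htr (x • b) (hxB b hb) b hb
  have m : ∀ y : Y, (y : G) • b₀ ∈ B := fun y => hYB y y.2 b₀ h0
  let F : Y → Y := fun y => ⟨y * (t ((y : G) • b₀))⁻¹ * c ((y : G) • b₀),
    mul_mem (mul_mem y.2 (inv_mem (t1 _ (m y)))) (c1 _ (m y))⟩
  have fx : ∀ y : Y, ((F y : G) * x) • (y : G) • b₀ = (y : G) • b₀ := fun y => by
    change ((y : G) * (t ((y : G) • b₀))⁻¹ * c ((y : G) • b₀) * x) • _ = _
    rw [mul_smul, mul_smul, c2 _ (m y), mul_smul, inv_smul_eq_iff.2 (t2 _ (m y)).symm]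
  have inj : Function.Injective F := fun y y' e => by
    have e1 : (y : G) • b₀ = (y' : G) • b₀ := h.one ((F y : G) * x)
      (fun hm => hx ((mul_mem_cancel_left (hY (F y).2)).1 hm)) _ _ (fx y) (e ▸ fx y')
    have e2 : (y : G) * (t ((y : G) • b₀))⁻¹ * c ((y : G) • b₀) =
      y' * (t ((y' : G) • b₀))⁻¹ * c ((y' : G) • b₀) := congrArg Subtype.val e
    rw [e1] at e2
    exact Subtype.ext (mul_right_cancel (mul_right_cancel e2))
  obtain ⟨y, hy⟩ := Finite.surjective_of_injective inj 1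
  exact ⟨_, m y, by simpa [hy] using fx y⟩

theorem Dat.derSub_le (h : Dat G Ω D) [Nonempty Ω] : CfsgLib.Recog.derSub G Ω ≤ D := by
  refine (closure_le _).2 fun g hg => by_contra fun hx => ?_
  obtain ⟨b, -, e⟩ := h.fix_mem le_rfl Set.univ_nonempty (fun _ _ _ _ => trivial)
    (fun a _ b _ => h.trans a b) hx fun _ _ => trivial
  exact hg b e

theorem Dat.index_dvd (h : Dat G Ω D) [Nonempty Ω] : D.index ∣ Nat.card Ω - 1 := by
  have := h.pretrans
  exact (index_dvd_of_le h.derSub_le).trans (CfsgLib.Recog.index_derSub_dvd_card_sub_one G Ω)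

theorem Dat.imp (h : Dat G Ω D) (hp : ¬ IsPreprimitive G Ω) :
    (D.index + 1) ^ 2 ≤ Nat.card Ω := by
  have := h.pretrans
  have := h.faithful
  have : Nonempty Ω := by
    by_contra hn
    have := not_nonempty_iff.1 hn
    exact hp IsPreprimitive.of_subsingleton
  have h1 := Cfsg.Agent.S3549.result h.pretrans hp
  have h2 : D.index ≤ (CfsgLib.Recog.derSub G Ω).index :=
    Nat.le_of_dvd (Nat.pos_of_ne_zero index_ne_zero_of_finite) (index_dvd_of_le h.derSub_le)
  have h3 : ((D.index : ℝ) + 1) ≤ Real.sqrt (Nat.card Ω) := by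
    have : (D.index : ℝ) ≤ (CfsgLib.Recog.derSub G Ω).index := by exact_mod_cast h2
    linarith
  exact_mod_cast (Real.le_sqrt (by positivity) (by positivity)).1 h3

theorem Dat.sub (h : Dat G Ω D) (H : Subgroup G) (htr : ∀ a b : Ω, ∃ d ∈ D, d ∈ H ∧ d • a = b) :
    Dat H Ω (D.subgroupOf H) := by
  have := h.normal
  exact ⟨inferInstance, fun a b => let ⟨d, d1, d2, e⟩ := htr a b; ⟨⟨d, d2⟩, d1, e⟩,
    fun x hx => h.one x hx, fun g hg => Subtype.ext (h.faith g hg)⟩

theorem index_subgroupOf_of_sup (hD : D.Normal) {H : Subgroup G}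
    (hs : ∀ g : G, ∃ x ∈ H, x⁻¹ * g ∈ D) : (D.subgroupOf H).index = D.index := by
  change D.relIndex H = _
  rw [← relIndex_sup_right, ← relIndex_top_right]
  refine congrArg _ (eq_top_iff.2 fun g _ => ?_)
  obtain ⟨x, hx, e⟩ := hs g
  simpa using mul_mem (mem_sup_left hx : x ∈ H ⊔ D) (mem_sup_right e)

end CfsgLib.DIX
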