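import Cfsg.Agent.Lib.DIX.AM
import Cfsg.Agent.Lib.DIX.IMP

/-! DIX/BR. `L = normalizer S ⊓ stabilizer G a` acts on `V = ↥S` (a `CommGroup` by `comm`) by conjugation
(`MulDistribMulAction.compHom` of `Subgroup.normalizerMonoidHom`, or a direct instance), `K = D.subgroupOf L`.
`Aff`: if `l ∈ L` commutes with `y ∈ S` it fixes `y • a`; so `l ∉ D` forces `y • a = a`, `y = 1`; and if `l` commutes with all
of `S` it fixes all points. `K.index = D.index` by `index_subgroupOf_of_sup` (`x ∈ normalizer S` is `l y'` with `y' ∈ S ≤ D`,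
`l ∈ L`: take `y ∈ S` with `y • a = x⁻¹ • a`, `l = x y`). `|S| = |Ω|` (`y ↦ y • a` is a bijection). `Aff.main` contradicts `hn`. -/

set_option autoImplicit false
set_option linter.unusedSectionVars false
set_option linter.unusedVariables false

namespace CfsgLib.DIX
open MulAction Subgroup

variable {G Ω : Type*} [Group G] [MulAction G Ω] [Finite G] [Finite Ω] {D : Subgroup G}

theorem Reg.card_eq {S : Subgroup G} {s : ℕ} (hr : Reg G Ω D S s) [Nonempty Ω] :
    Nat.card S = Nat.card Ω := by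
  obtain ⟨a⟩ := ‹Nonempty Ω›
  refine Nat.card_congr (Equiv.ofBijective (fun y : S => (y : G) • a) ⟨fun x y e => ?_, fun b => ?_⟩)
  · have := hr.free _ (mul_mem (inv_mem y.2) x.2) a (by rw [mul_smul, inv_smul_eq_iff]; exact e)
    exact Subtype.ext (inv_mul_eq_one.1 this).symm
  · obtain ⟨y, hy, e⟩ := hr.trans a b
    exact ⟨⟨y, hy⟩, e⟩

theorem Reg.fpf (h : Dat G Ω D) {S : Subgroup G} {s : ℕ} (hr : Reg G Ω D S s)
    (hn : Nat.card Ω < (D.index + 1) ^ 2) {a : Ω} {g : G} (hg : g ∈ normalizer (S : Set G))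
    (hga : g • a = a) {y : G} (hy : y ∈ S) (hc : g * y = y * g) : g = 1 ∨ y = 1 := by
  by_contra hne
  push Not at hne
  haveI : Nonempty Ω := ⟨a⟩
  let L : Subgroup G := normalizer (S : Set G) ⊓ stabilizer G a
  letI : CommGroup S := { (inferInstance : Group S) with mul_comm := fun x y => Subtype.ext (hr.comm _ x.2 _ y.2) }
  letI : MulDistribMulAction L S :=
    { smul := fun l v => ⟨l * v * (l : G)⁻¹, (mem_normalizer_iff.1 l.2.1 v).1 v.2⟩
      one_smul := fun v => Subtype.ext (by change (1 : G) * v * 1⁻¹ = v; simp)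
      mul_smul := fun l m v => Subtype.ext (by
        change (l : G) * m * v * ((l : G) * m)⁻¹ = l * (m * v * (m : G)⁻¹) * (l : G)⁻¹; group)
      smul_mul := fun l v w => Subtype.ext (by
        change (l : G) * (v * w) * (l : G)⁻¹ = l * v * (l : G)⁻¹ * (l * w * (l : G)⁻¹); group)
      smul_one := fun l => Subtype.ext (by change (l : G) * 1 * (l : G)⁻¹ = 1; simp) }
  have sm : ∀ (l : L) (v : S), ((l • v : S) : G) = l * v * (l : G)⁻¹ := fun _ _ => rfl
  have fx : ∀ (l : L) (v : S), l • v = v → (l : G) • (v : G) • a = (v : G) • a := fun l v e => by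
    have := congrArg Subtype.val e
    rw [sm, mul_inv_eq_iff_eq_mul] at this
    rw [← mul_smul, this, mul_smul, show (l : G) • a = a from l.2.2]
  have A : Aff L S (D.subgroupOf L) := ⟨h.normal.subgroupOf L, fun l hl => Subtype.ext (h.faith _ fun b => by
      obtain ⟨y, hy, rfl⟩ := hr.trans a b
      exact fx l ⟨y, hy⟩ (hl _)),
    fun l hl v hv => Subtype.ext (hr.free _ v.2 a (h.one l hl _ _ (fx l v hv) l.2.2))⟩
  have := A.main (g := ⟨g, hg, hga⟩) (v := ⟨y, hy⟩) (fun e => hne.1 (congrArg Subtype.val e))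
    (fun e => hne.2 (congrArg Subtype.val e)) (Subtype.ext (mul_inv_eq_iff_eq_mul.2 hc))
  rw [index_subgroupOf_of_sup h.normal fun k => ?_, hr.card_eq] at this
  · omega
  · obtain ⟨x, hx, hk⟩ := hr.sup k
    obtain ⟨w, hw, e⟩ := hr.trans a (x⁻¹ • a)
    refine ⟨x * w, ⟨mul_mem hx (le_normalizer hw), ?_⟩, ?_⟩
    · change (x * w) • a = a
      rw [mul_smul, e, smul_inv_smul]
    · rw [mul_inv_rev, mul_assoc]
      exact mul_mem (inv_mem (hr.le hw)) hk

end CfsgLib.DIX
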