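import Cfsg.Agent.Lib.DIX.Defs

/-! DIX/CA. `π g = |fixedBy Ω g|` is a character (`isCharacter_perm`), `π = ∑ n χ • χ` (`exists_char_eq_sum_nat`), and
`π|S = regChar S` (`S` regular, `|S| = |Ω|`). For `l ∈ Irr S`: `1 = l 1 = ⟨π|S, l⟩ = ∑_χ n χ * ⟨χ|S, l⟩` with natural numbers
`⟨χ|S, l⟩` (`exists_classInner_eq_nat`, `classInner_regChar_left`, `irr_one_eq_one_of_comm`). So there is exactly one
`χ = ch l` with `n χ * ⟨χ|S, l⟩ ≠ 0`, and both factors are `1`. `n 1 = 1` (`classInner_perm_one_of_pretransitive`) and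
`⟨1|S, 1⟩ = 1`, so `ch 1 = 1`; `⟨1|S, l⟩ = 0` for `l ≠ 1`, so `ch l ≠ 1`. `Θ = {χ ≠ 1 | n χ ≠ 0}`. For `θ ∈ Θ`, `θ|S ≠ 0` has a
constituent `l` (`exists_irr_inner_ne_zero`), so `θ = ch l`, `n θ = 1`, and `l ≠ 1`. -/

set_option autoImplicit false
set_option linter.unusedSectionVars false
set_option linter.unusedVariables false

namespace CfsgLib.DIX
open MulAction Subgroup
open Cfsg CfsgLib.Char

variable {D Ω : Type*} [Group D] [MulAction D Ω] [Fintype D] [Finite Ω] {S : Subgroup D}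
  [Fintype S]

theorem CD.card_eq (h : CD D Ω S) [Nonempty Ω] : Nat.card S = Nat.card Ω := by
  obtain ⟨a⟩ := ‹Nonempty Ω›
  refine Nat.card_congr (Equiv.ofBijective (fun y : S => (y : D) • a) ⟨fun y z e => ?_, fun b => ?_⟩)
  · have e' : (y : D) • a = (z : D) • a := e
    have := h.free _ (mul_mem (inv_mem z.2) y.2) a (by rw [mul_smul, e', inv_smul_smul])
    exact Subtype.ext (inv_mul_eq_one.1 this).symm
  · obtain ⟨y, hy, e⟩ := h.trans a b
    exact ⟨⟨y, hy⟩, e⟩

theorem CD.exists_con (h : CD D Ω S) [Nonempty Ω] :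
    ∃ (Θ : Finset (IrrCharacter D)) (ch : IrrCharacter S → IrrCharacter D), Con D Ω S Θ ch := by
  classical
  have : IsPretransitive D Ω := ⟨fun a b => let ⟨y, _, e⟩ := h.trans a b; ⟨y, e⟩⟩
  have : IsMulCommutative S := ⟨⟨fun a b => Subtype.ext (h.comm _ a.2 _ b.2)⟩⟩
  obtain ⟨n, hn, hπ⟩ := exists_char_eq_sum_nat (isCharacter_perm (G := D) Ω)
  have res : ∀ χ : IrrCharacter D, IsCharacter S fun y : S => (χ : D → ℂ) y := fun χ =>
    isCharacter_comp S.subtype (irr_isCharacter χ)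
  choose m hm using fun (χ : IrrCharacter D) (l : IrrCharacter S) => exists_classInner_eq_nat (res χ) (irr_isCharacter l)
  have reg : regChar S = ∑ χ : IrrCharacter D, (n χ : ℂ) • fun y : S => (χ : D → ℂ) y := by
    funext y
    have := congrFun hπ y
    simp only [Finset.sum_apply, Pi.smul_apply] at this ⊢
    rw [← this]
    by_cases hy : y = 1
    · subst hy
      rw [regChar_one, h.card_eq]
      simp
    · rw [regChar_of_ne_one hy]
      have : fixedBy Ω (y : D) = ∅ := Set.eq_empty_of_forall_notMem fun a ha => hy (Subtype.ext (h.free _ y.2 a ha))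
      simp [this]
  have key : ∀ l : IrrCharacter S, ∑ χ, n χ * m χ l = 1 := fun l => by
    have := classInner_regChar_left (l : S → ℂ)
    rw [irr_one_eq_one_of_comm l.2, map_one, reg, classInner_sum_left] at this
    simp only [classInner_smul_left, hm] at this
    exact_mod_cast this
  have ex : ∀ l : IrrCharacter S, ∃ χ, n χ = 1 ∧ m χ l = 1 ∧ ∀ θ, θ ≠ χ → n θ * m θ l = 0 := fun l => by
    obtain ⟨χ, -, h1⟩ := Finset.exists_ne_zero_of_sum_ne_zero ((key l).trans_ne one_ne_zero)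
    have h2 := key l
    rw [← Finset.add_sum_erase _ _ (Finset.mem_univ χ)] at h2
    have h3 : n χ * m χ l = 1 := by omega
    refine ⟨χ, Nat.eq_one_of_mul_eq_one_right h3, Nat.eq_one_of_mul_eq_one_left h3, fun θ hθ => ?_⟩
    exact Finset.sum_eq_zero_iff.1 (show ∑ x ∈ Finset.univ.erase χ, n x * m x l = 0 by omega) θ (by simp [hθ])
  choose ch c1 c2 c3 using ex
  have n1 : n (irrOne D) = 1 := by
    have := hn (irrOne D)
    rw [irrOne_coe, classInner_perm_one_of_pretransitive] at this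
    exact_mod_cast this.symm
  have m1 : ∀ l, (m (irrOne D) l : ℂ) = if irrOne S = l then 1 else 0 := fun l => by
    rw [← hm, ← classInner_irr_irr]; rfl
  have ch1 : ch (irrOne S) = irrOne D := by
    by_contra e
    have := c3 _ _ (Ne.symm e)
    have h2 := m1 (irrOne S)
    rw [n1, one_mul] at this
    simp [this] at h2
  have sj : ∀ θ, θ ≠ irrOne D → n θ ≠ 0 → ∃ l, l ≠ irrOne S ∧ ch l = θ := fun θ h1 h2 => by
    obtain ⟨l, hl, h3⟩ := exists_irr_inner_ne_zero (isClassFunction_of_isCharacter (res θ)) fun e =>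
      irr_one_ne_zero θ.2 (congrFun e 1)
    have h4 : ch ⟨l, hl⟩ = θ := by
      by_contra e
      have := hm θ ⟨l, hl⟩
      rw [(Nat.mul_eq_zero.1 (c3 _ _ (Ne.symm e))).resolve_left h2] at this
      exact h3 (this.trans Nat.cast_zero)
    exact ⟨_, fun e => h1 (by rw [← h4, e, ch1]), h4⟩
  refine ⟨Finset.univ.filter fun χ => χ ≠ irrOne D ∧ n χ ≠ 0, ch, by simp, fun g => ?_, fun l hl => ?_,
    fun l _ => by rw [hm, c2, Nat.cast_one], fun l _ θ hθ e => ?_, fun θ hθ => ?_⟩
  · rw [congrFun hπ g, Finset.sum_apply, ← Finset.add_sum_erase _ _ (Finset.mem_univ (irrOne D)), n1]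
    congr 1
    · simp [irrOne_apply]
    · refine (Finset.sum_subset (fun χ hχ => ?_) fun χ h1 h2 => ?_).symm.trans (Finset.sum_congr rfl fun χ hχ => ?_)
      · exact Finset.mem_erase.2 ⟨(Finset.mem_filter.1 hχ).2.1, Finset.mem_univ _⟩
      · have : n χ = 0 := by
          by_contra e
          exact h2 (Finset.mem_filter.2 ⟨Finset.mem_univ _, Finset.ne_of_mem_erase h1, e⟩)
        simp [this]
      · obtain ⟨l, -, rfl⟩ := sj χ (Finset.mem_filter.1 hχ).2.1 (Finset.mem_filter.1 hχ).2.2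
        simp [c1]
  · refine Finset.mem_filter.2 ⟨Finset.mem_univ _, fun e => ?_, by simp [c1]⟩
    have := m1 l
    rw [← e, c2, if_neg hl.symm] at this
    simp at this
  · rw [hm, (Nat.mul_eq_zero.1 (c3 _ _ e)).resolve_left (Finset.mem_filter.1 hθ).2.2, Nat.cast_zero]
  · exact sj θ (Finset.mem_filter.1 hθ).2.1 (Finset.mem_filter.1 hθ).2.2

end CfsgLib.DIX
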