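import Cfsg.Agent.Lib.DIX.CN

/-! DIX/CB. `ind_eq`: `l`, `m` are not conjugate under the normalizer (if `m y = l (k y k⁻¹)` for all `y` then
`⟨θ|S, m⟩ = ⟨θ|S, l⟩` for the class function `θ = ch l`, by `classInner_comp_mulEquiv`; but these are `0` and `1`). So
`ψ = indFun S (l - m)` has norm 2 (`norm_ind`), `⟨ψ, ch l⟩ = ⟨l - m, (ch l)|S⟩ = 1`, `⟨ψ, ch m⟩ = -1` (reciprocity,
`classInner_conj_symm`); expand `⟨ψ - (ch l - ch m), ψ - (ch l - ch m)⟩ = 2 - 2 - 2 + 2 = 0` (`classInner_self_eq_zero`).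
`agree`: by `surj` and `ind_eq`, `θ - θ' = indFun S (l - m)`, which vanishes at `g` (`indFun_eq_zero_of_forall`;
`(l - m) 1 = 0`).
`count`: `|Irr S| = |S|` (`card_irr_eq_card_conjClasses` or `sum_irr_one_sq`). `ch` maps the `|S| - 1` non-principal `l` into `Θ`;
each fibre has at most `|N : S|` elements (`Finset.card_le_mul_card_image`): fix `l` in the fibre of `θ` and `m` with
`ch m ∈ Θ`, `ch m ≠ θ`; for `l'` in the fibre `indFun S (l - l') = (θ - ch m) - (θ - ch m) = 0`, so by `norm_ind` `l' = l^k` for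
some `k ∈ N`, and `l^k` depends only on the coset of `k` modulo `S`. -/

set_option autoImplicit false
set_option linter.unusedSectionVars false
set_option linter.unusedVariables false

namespace CfsgLib.DIX
open MulAction Subgroup
open Cfsg CfsgLib.Char

variable {D Ω : Type*} [Group D] [MulAction D Ω] [Fintype D] [Finite Ω] {S : Subgroup D}
  [Fintype S]

variable {Θ : Finset (IrrCharacter D)} {ch : IrrCharacter S → IrrCharacter D}

theorem Con.ind_eq (h : CD D Ω S) (hc : Con D Ω S Θ ch) {l m : IrrCharacter S} (hl : l ≠ irrOne S)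
    (hm : m ≠ irrOne S) (hne : ch l ≠ ch m) :
    indFun S ((l : S → ℂ) - (m : S → ℂ)) = (ch l : D → ℂ) - (ch m : D → ℂ) := by
  have h2 := norm_ind h.comm h.cent hl hm fun k hk e => by
    have h1 := classInner_comp_mulEquiv (S.normalizerMonoidHom ⟨k, hk⟩) (fun y : S => (ch l : D → ℂ) y) (l : S → ℂ)
    have e1 : (fun y : S => (ch l : D → ℂ) (S.normalizerMonoidHom ⟨k, hk⟩ y : S)) = fun y : S => (ch l : D → ℂ) y :=
      funext fun y => irr_isClassFunction (ch l) y k
    have e2 : (fun y : S => (l : S → ℂ) (S.normalizerMonoidHom ⟨k, hk⟩ y)) = (m : S → ℂ) :=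
      funext fun y => (e y _).symm
    rw [e1, e2, hc.inner_self l hl, hc.inner_ne m hm _ (hc.mem l hl) hne] at h1
    exact zero_ne_one h1
  have a1 : classInner (ch l : D → ℂ) (indFun S ((l : S → ℂ) - (m : S → ℂ))) = 1 := by
    rw [classInner_indFun_right _ _ (irr_isClassFunction _), classInner_sub_right, hc.inner_self l hl,
      hc.inner_ne m hm _ (hc.mem l hl) hne, sub_zero]
  have a2 : classInner (ch m : D → ℂ) (indFun S ((l : S → ℂ) - (m : S → ℂ))) = -1 := by
    rw [classInner_indFun_right _ _ (irr_isClassFunction _), classInner_sub_right, hc.inner_self m hm,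
      hc.inner_ne l hl _ (hc.mem m hm) hne.symm, zero_sub]
  have b1 : classInner (indFun S ((l : S → ℂ) - (m : S → ℂ))) (ch l : D → ℂ) = 1 := by
    rw [← classInner_conj_symm, a1, map_one]
  have b2 : classInner (indFun S ((l : S → ℂ) - (m : S → ℂ))) (ch m : D → ℂ) = -1 := by
    rw [← classInner_conj_symm, a2, map_neg, map_one]
  generalize indFun S ((l : S → ℂ) - (m : S → ℂ)) = ψ at h2 a1 a2 b1 b2
  rw [← sub_eq_zero, ← classInner_self_eq_zero]
  simp only [classInner_sub_left, classInner_sub_right, h2, a1, a2, b1, b2, classInner_irr_irr, if_true,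
    if_neg hne, if_neg hne.symm]
  norm_num

theorem Con.agree (h : CD D Ω S) (hc : Con D Ω S Θ ch) {θ θ' : IrrCharacter D} (hθ : θ ∈ Θ)
    (hθ' : θ' ∈ Θ) {g : D} (hg : ∀ x : D, x * g * x⁻¹ ∈ S → g = 1) :
    (θ : D → ℂ) g = (θ' : D → ℂ) g := by
  by_cases e : θ = θ'
  · rw [e]
  obtain ⟨l, hl, rfl⟩ := hc.surj θ hθ
  obtain ⟨m, hm, rfl⟩ := hc.surj θ' hθ'
  have : IsMulCommutative S := ⟨⟨fun a b => Subtype.ext (h.comm a a.2 b b.2)⟩⟩
  rw [← sub_eq_zero, ← Pi.sub_apply, ← hc.ind_eq h hl hm e]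
  refine indFun_eq_zero_of_forall _ _ fun x hx => ?_
  obtain rfl := hg x hx
  rw [show (⟨x * 1 * x⁻¹, hx⟩ : S) = 1 from Subtype.ext (by simp), Pi.sub_apply, irr_one_eq_one_of_comm l.2,
    irr_one_eq_one_of_comm m.2, sub_self]

theorem Con.count (h : CD D Ω S) (hc : Con D Ω S Θ ch) (h2 : 2 ≤ Θ.card) :
    Nat.card S - 1 ≤ Θ.card * S.relIndex (normalizer (S : Set D)) := by
  classical
  have : IsMulCommutative S := ⟨⟨fun a b => Subtype.ext (h.comm a a.2 b b.2)⟩⟩
  have h1 : (Finset.univ : Finset (IrrCharacter S)).card = Nat.card S := by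
    have := sum_irr_one_sq (G := S)
    rw [Finset.sum_congr rfl fun χ _ => by rw [irr_one_eq_one_of_comm χ.2, one_pow], Finset.sum_const,
      nsmul_eq_mul, mul_one] at this
    exact_mod_cast this
  rw [← h1, ← Finset.card_erase_of_mem (Finset.mem_univ (irrOne S)), mul_comm]
  refine Finset.card_le_mul_card_image_of_maps_to (f := ch) (fun l hl => hc.mem l (Finset.ne_of_mem_erase hl)) _
    fun θ hθ => ?_
  obtain ⟨l, hl, rfl⟩ := hc.surj θ hθ
  obtain ⟨θ', hθ', ne⟩ := Finset.exists_mem_ne h2 (ch l)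
  obtain ⟨m, hm, rfl⟩ := hc.surj θ' hθ'
  have key : ∀ l' : {a ∈ Finset.univ.erase (irrOne S) | ch a = ch l}, ∃ k : normalizer (S : Set D),
      ∀ (y : S) (hy : (k : D) * y * (k : D)⁻¹ ∈ S), (l'.1 : S → ℂ) y = (l : S → ℂ) ⟨_, hy⟩ := by
    rintro ⟨l', hl'⟩
    rw [Finset.mem_filter] at hl'
    have n := Finset.ne_of_mem_erase hl'.1
    by_contra hn
    have h3 := norm_ind h.comm h.cent hl n fun k hk e => hn ⟨⟨k, hk⟩, e⟩
    rw [← sub_sub_sub_cancel_right _ _ (m : S → ℂ), indFun_sub, hc.ind_eq h hl hm ne.symm,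
      hc.ind_eq h n hm (hl'.2 ▸ ne.symm), hl'.2, sub_self, classInner_zero_left] at h3
    exact two_ne_zero h3.symm
  choose k hk using key
  rw [← Nat.card_eq_finsetCard]
  refine Nat.card_le_card_of_injective
    (fun a => (QuotientGroup.mk (k a) : normalizer (S : Set D) ⧸ S.subgroupOf (normalizer (S : Set D)))) fun a b e => ?_
  have e1 : (k a : D)⁻¹ * k b ∈ S := QuotientGroup.eq (s := S.subgroupOf (normalizer (S : Set D))).1 e
  refine Subtype.ext (Subtype.ext (funext fun y => ?_))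
  rw [hk a y ((mem_normalizer_iff.1 (k a).2 _).1 y.2), hk b y ((mem_normalizer_iff.1 (k b).2 _).1 y.2)]
  refine congrArg _ (Subtype.ext ?_)
  calc (k a : D) * y * (k a : D)⁻¹ = k a * (y * ((k a : D)⁻¹ * k b)) * (k b : D)⁻¹ := by group
    _ = _ := by rw [h.comm _ y.2 _ e1]; group

end CfsgLib.DIX
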