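import Cfsg.Agent.Lib.DIX.CA
import Cfsg.Agent.Lib.DIX.CB

/-! DIX/CC. `t = |Θ|`. `t ≠ 0` as `π 1 = n ≥ 2`; `t ≠ 1` by `isIrr_perm_sub_one_iff` (`π - 1 = θ`). `∑ π ^ 2 = |D| ⟨π, π⟩`
(`card_mul_classInner`) and `⟨π, π⟩ = t + 1` by orthonormality. For `g` as in the last clause `π g = 1 + t c` with
`c = θ g` (`agree`) an algebraic integer (`isIntegral_char`) equal to the rational `(π g - 1) / t`; if `π g = 0` then
`c = -1 / t` is integral over `ℤ`, hence an integer (`IsIntegrallyClosed`), impossible for `t ≥ 2`. -/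

set_option autoImplicit false
set_option linter.unusedSectionVars false
set_option linter.unusedVariables false

namespace CfsgLib.DIX
open MulAction Subgroup
open Cfsg CfsgLib.Char

variable {D Ω : Type*} [Group D] [MulAction D Ω] [Fintype D] [Finite Ω] {S : Subgroup D}
  [Fintype S]

theorem CD.char (h : CD D Ω S) (h2 : 2 ≤ Nat.card Ω) (hn2 : ¬ IsMultiplyPretransitive D Ω 2) :
    ∃ t : ℕ, ∑ g : D, Nat.card (fixedBy Ω g) ^ 2 = (t + 1) * Nat.card D ∧
      Nat.card Ω - 1 ≤ t * S.relIndex (normalizer (S : Set D)) ∧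
      ∀ g : D, (∀ x : D, x * g * x⁻¹ ∈ S → g = 1) → 1 ≤ Nat.card (fixedBy Ω g) := by
  classical
  have : Nonempty Ω := (Nat.card_pos_iff.1 (by omega)).1
  have : IsPretransitive D Ω := ⟨fun a b => by
    obtain ⟨y, -, e⟩ := h.trans a b
    exact ⟨y, e⟩⟩
  obtain ⟨Θ, ch, hc⟩ := h.exists_con
  have ht : 2 ≤ Θ.card := by
    by_contra! hlt
    rcases (by omega : Θ.card = 0 ∨ Θ.card = 1) with k | k
    · have e := hc.perm 1
      rw [Finset.card_eq_zero.1 k, Finset.sum_empty, add_zero, fixedBy_one_eq_univ, Nat.card_univ] at e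
      have : Nat.card Ω = 1 := by exact_mod_cast e
      omega
    · obtain ⟨θ, rfl⟩ := Finset.card_eq_one.1 k
      refine hn2 ((isIrr_perm_sub_one_iff Ω h2).1 ?_)
      have e : (fun g : D => (Nat.card (fixedBy Ω g) : ℂ) - 1) = (θ : D → ℂ) := funext fun g => by
        rw [hc.perm g, Finset.sum_singleton, add_sub_cancel_left]
      rw [e]
      exact θ.2
  refine ⟨Θ.card, ?_, h.card_eq ▸ hc.count h ht, fun g hg => ?_⟩
  · have e : (fun g : D => (Nat.card (fixedBy Ω g) : ℂ)) = ∑ θ ∈ insert (irrOne D) Θ, (θ : D → ℂ) :=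
      funext fun g => by
        rw [hc.perm g, Finset.sum_apply, Finset.sum_insert hc.one_notMem, irrOne_apply]
    have e1 := card_mul_classInner (fun g : D => (Nat.card (fixedBy Ω g) : ℂ))
      (fun g : D => (Nat.card (fixedBy Ω g) : ℂ))
    have e2 : classInner (fun g : D => (Nat.card (fixedBy Ω g) : ℂ))
        (fun g : D => (Nat.card (fixedBy Ω g) : ℂ)) = (Θ.card + 1 : ℕ) := by
      rw [e, classInner_sum_left, ← Finset.card_insert_of_notMem hc.one_notMem, Finset.card_eq_sum_ones,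
        Nat.cast_sum]
      refine Finset.sum_congr rfl fun θ hθ => ?_
      rw [classInner_sum_right]
      simp only [classInner_irr_irr]
      rw [Finset.sum_ite_eq, if_pos hθ, Nat.cast_one]
    rw [e2] at e1
    simp only [map_natCast] at e1
    have e3 : ((∑ g : D, Nat.card (fixedBy Ω g) ^ 2 : ℕ) : ℂ) = ((Θ.card + 1) * Nat.card D : ℕ) := by
      rw [Nat.cast_mul, mul_comm, e1, Nat.cast_sum]
      exact Finset.sum_congr rfl fun g _ => by rw [Nat.cast_pow, pow_two]
    exact_mod_cast e3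
  · by_contra! h0
    obtain ⟨θ, hθ⟩ := Finset.card_pos.1 (show 0 < Θ.card by omega)
    have e := hc.perm g
    rw [show Nat.card (fixedBy Ω g) = 0 by omega,
      Finset.sum_congr rfl fun θ' hθ' => hc.agree h hθ' hθ hg, Finset.sum_const, nsmul_eq_mul] at e
    have t0 : (Θ.card : ℂ) ≠ 0 := by exact_mod_cast (by omega : Θ.card ≠ 0)
    have hi := isIntegral_char (χ := (θ : D → ℂ)) (by
      obtain ⟨n, ρ, -, e⟩ := θ.2
      exact ⟨n, ρ, e⟩) g
    have e1 : (θ : D → ℂ) g = algebraMap ℚ ℂ (-1 / Θ.card) := by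
      rw [map_div₀, map_neg, map_one, map_natCast, eq_div_iff t0]
      push_cast at e
      linear_combination -e
    rw [e1, isIntegral_algebraMap_iff (algebraMap ℚ ℂ).injective] at hi
    obtain ⟨y, hy⟩ := IsIntegrallyClosed.isIntegral_iff.1 hi
    have t1 : (Θ.card : ℚ) ≠ 0 := by exact_mod_cast (by omega : Θ.card ≠ 0)
    rw [eq_div_iff t1, eq_intCast] at hy
    have e2 : (Θ.card : ℤ) * -y = 1 := by
      have : ((y * Θ.card : ℤ) : ℚ) = (-1 : ℤ) := by push_cast; exact hy
      have := Int.cast_injective this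
      linear_combination -this
    have := Int.eq_one_of_mul_eq_one_right (by positivity) e2
    omega

end CfsgLib.DIX
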