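import Cfsg.Agent.Lib.DIX.Defs
import Cfsg.Agent.Lib.Tech.SylowIn

/-! DIX/CG. `C = D ⊓ centralizer {y} ≥ S`; `S.subgroupOf C` is a Sylow `s`-subgroup of `↥C` (`S.relIndex C ∣`-argument:
`S` is a maximal `s`-subgroup of `D`). If `c ∈ C` normalizes `S`, pick `t ∈ S` with `t • a = c • a`; `t⁻¹ c` normalizes `S`,
fixes `a`, commutes with `y`, so is `1` by `hf`: `N_C(S) = S ≤ C_C(S)`. Burnside
(`MonoidHom.ker_transferSylow_isComplement'`): a normal complement `R` of `S` in `C`. `C_a` = stabilizer of `a` in `C` is also a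
complement of the regular group `S` (`|C| = |S| |C_a|`), its order `|C : S|` is prime to `s`, so its image in the `s`-group
`C / R` is trivial: `C_a ≤ R`, equal by orders. So `C_a` is normal in the transitive group `C`, fixes every point, and is
trivial by `faith`. For `d ∈ C` pick `t ∈ S` with `t • a = d • a`: `t⁻¹ d ∈ C_a = 1`. -/

set_option autoImplicit false
set_option linter.unusedSectionVars false
set_option linter.unusedVariables false

namespace CfsgLib.DIX
open MulAction Subgroup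

variable {G Ω : Type*} [Group G] [MulAction G Ω] [Finite G] [Finite Ω] {D : Subgroup G}

theorem Reg.cent (h : Dat G Ω D) {S : Subgroup G} {s : ℕ} (hr : Reg G Ω D S s) (a : Ω)
    (hf : ∀ g ∈ normalizer (S : Set G), g • a = a → ∀ y ∈ S, g * y = y * g → g = 1 ∨ y = 1)
    {y : G} (hy : y ∈ S) (hy1 : y ≠ 1) {d : G} (hd : d ∈ D) (hc : d * y = y * d) : d ∈ S := by
  haveI := Fact.mk hr.prime
  obtain ⟨C, hC⟩ : ∃ C, C = D ⊓ centralizer {y} := ⟨_, rfl⟩
  have SC : S ≤ C := hC ▸ le_inf hr.le fun t ht => mem_centralizer_singleton_iff.2 (hr.comm t ht y hy)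
  have Cy : ∀ c ∈ C, c * y = y * c := fun c hc => mem_centralizer_singleton_iff.1 (hC ▸ hc).2
  have hi : ¬ s ∣ (S.subgroupOf C).index := fun k =>
    hr.syl (k.trans ⟨_, (relIndex_mul_relIndex S C D SC (hC ▸ inf_le_left)).symm⟩)
  let P : Sylow s C := (hr.pg.comap_subtype (K := C)).toSylow hi
  have mP : ∀ x : C, x ∈ (P : Subgroup C) ↔ (x : G) ∈ S := fun _ => Iff.rfl
  have hP : normalizer ((P : Subgroup C) : Set C) ≤ centralizer ((P : Subgroup C) : Set C) := fun c hc => by
    have n : (c : G) ∈ normalizer (S : Set G) := Tech.mem_normalizer_of_forall fun x hx =>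
      (mP _).1 (Tech.conj_mem_of_mem_normalizer hc ((mP ⟨x, SC hx⟩).2 hx))
    obtain ⟨t, ht, e⟩ := hr.trans a ((c : G) • a)
    have := (hf (t⁻¹ * c) (mul_mem (inv_mem (le_normalizer ht)) n) (by rw [mul_smul, ← e, inv_smul_smul]) y hy
      (Cy _ (mul_mem (inv_mem (SC ht)) c.2))).resolve_right hy1
    rw [inv_mul_eq_one] at this
    exact fun x hx => Subtype.ext (hr.comm x hx c (this ▸ ht))
  have hK := MonoidHom.ker_transferSylow_isComplement' P hP
  have st : ∀ b : Ω, stabilizer C b ≤ (MonoidHom.transferSylow P hP).ker := fun b c hc => by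
    have cp : IsComplement' (P : Subgroup C) (stabilizer C b) :=
      isComplement'_stabilizer b (fun x e => Subtype.ext (Subtype.ext (hr.free _ x.2 b e))) fun g => by
        obtain ⟨t, ht, e⟩ := hr.trans ((g : G) • b) b
        exact ⟨⟨⟨t, SC ht⟩, ht⟩, e⟩
    obtain ⟨k, hk⟩ := IsPGroup.iff_orderOf.1 P.isPGroup' (MonoidHom.transferSylow P hP c)
    have dv := (orderOf_map_dvd (MonoidHom.transferSylow P hP) c).trans (orderOf_dvd_natCard _ hc)
    rw [← cp.symm.index_eq_card, hk] at dv
    rcases k with _ | k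
    · exact orderOf_eq_one_iff.1 hk
    · exact absurd ((dvd_pow_self s k.succ_ne_zero).trans dv) hi
  have triv : ∀ r ∈ (MonoidHom.transferSylow P hP).ker, r = 1 := fun r hr' =>
    Subtype.ext (h.faith _ fun b => by
      obtain ⟨t, ht, e⟩ := hr.trans b ((r : G) • b)
      have m := st b (show (⟨t, SC ht⟩ : C)⁻¹ * r ∈ stabilizer C b from by
        change (t⁻¹ * r) • b = b
        rw [mul_smul, ← e, inv_smul_smul])
      have := disjoint_def.1 hK.disjoint (inv_mem_iff.1 ((mul_mem_cancel_right hr').1 m)) ((mP ⟨t, SC ht⟩).2 ht)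
      rw [← e, show t = 1 from congrArg Subtype.val this, one_smul])
  obtain ⟨t, ht, e⟩ := hr.trans a (d • a)
  have dC : d ∈ C := hC ▸ ⟨hd, mem_centralizer_singleton_iff.2 hc⟩
  have := triv _ (st a (show (⟨t, SC ht⟩ : C)⁻¹ * ⟨d, dC⟩ ∈ stabilizer C a from by
    change (t⁻¹ * d) • a = a
    rw [mul_smul, ← e, inv_smul_smul]))
  rw [inv_mul_eq_one] at this
  exact (show t = d from congrArg Subtype.val this) ▸ ht

end CfsgLib.DIX
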