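import Cfsg.Agent.Lib.DIX.CC

/-! DIX/CK. `n = |Ω| = |S|`, `N = normalizer S`, `k = |N : S|`, `|N| = n k`. `U = {g | ∀ x, x g x⁻¹ ∈ S → g = 1}`. For `g ∉ U`,
`π g = 0` (conjugate to `1 ≠ y ∈ S`, `free`). `|Uᶜ| |N| ≤ |D| (n - 1)`: `(g, j) ↦ (j x_g, j x_g g x_g⁻¹ j⁻¹)` is an injection
`Uᶜ × N → D × (S \ {1})`. `∑ π = |D|` (`CfsgLib.Recog.burnside_nat`). In `ℤ`:
`A = ∑_{g ∈ U} (π g - 1) (n - π g) = (n + 1) |D| - (t + 1) |D| - n |U| = n |Uᶜ| - t |D|`, so
`k A = |N| |Uᶜ| - t k |D| ≤ |D| ((n - 1) - t k) ≤ 0`; every term of `A` is `≥ 0` (`1 ≤ π g ≤ n` on `U`), so each vanishes;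
`π g = n` means `g` fixes every point, `g = 1`.
`normal_of_frob`: `|G| = ∑ π ≤ n + (|G| - 1 - e)`, `e` = the number of derangements, so `e ≤ n - 1 = |S \ {1}|`; the non-identity
elements of `S` are derangements, hence all of them, and this set is closed under conjugation. -/

set_option autoImplicit false
set_option linter.unusedSectionVars false
set_option linter.unusedVariables false

namespace CfsgLib.DIX
open MulAction Subgroup
open Cfsg CfsgLib.Char

variable {D Ω : Type*} [Group D] [MulAction D Ω] [Fintype D] [Finite Ω] {S : Subgroup D}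
  [Fintype S]

theorem ck_card {G Ω : Type*} [Group G] [MulAction G Ω] [Nonempty Ω] {S : Subgroup G}
    (trans : ∀ a b : Ω, ∃ y ∈ S, y • a = b) (free : ∀ y ∈ S, ∀ a : Ω, y • a = a → y = 1) :
    Nat.card S = Nat.card Ω := by
  obtain ⟨a⟩ := ‹Nonempty Ω›
  refine Nat.card_congr (Equiv.ofBijective (fun y : S => (y : G) • a) ⟨fun y z e => ?_, fun b => ?_⟩)
  · have := free _ (mul_mem (inv_mem z.2) y.2) a (by rw [mul_smul, inv_smul_eq_iff]; exact e)
    exact Subtype.ext (inv_mul_eq_one.1 this).symm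
  · obtain ⟨y, hy, e⟩ := trans a b
    exact ⟨⟨y, hy⟩, e⟩

theorem ck_zero {G Ω : Type*} [Group G] [MulAction G Ω] {S : Subgroup G}
    (free : ∀ y ∈ S, ∀ a : Ω, y • a = a → y = 1) {g x : G} (hx : x * g * x⁻¹ ∈ S) (hg : g ≠ 1) :
    Nat.card (fixedBy Ω g) = 0 := by
  refine Nat.card_eq_zero.2 (Or.inl ⟨fun a => hg ?_⟩)
  have := free _ hx (x • (a : Ω)) (by rw [mul_smul, mul_smul, inv_smul_smul, a.2])
  rwa [mul_inv_eq_one, mul_eq_left] at this

theorem ck_filter {G : Type*} [Group G] [Fintype G] (S : Subgroup G) [DecidablePred (· ∈ S)] :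
    (Finset.univ.filter (· ∈ S)).card = Nat.card S := by
  rw [Nat.card_eq_fintype_card, Fintype.card_subtype]

theorem CD.frob (h : CD D Ω S) (h2 : 2 ≤ Nat.card Ω) (hn2 : ¬ IsMultiplyPretransitive D Ω 2)
    {g : D} (hg : g ≠ 1) : Nat.card (fixedBy Ω g) ≤ 1 := by
  classical
  haveI : Nonempty Ω := (Nat.card_pos_iff.1 (by omega)).1
  haveI : IsPretransitive D Ω := ⟨fun a b => let ⟨y, _, e⟩ := h.trans a b; ⟨y, e⟩⟩
  obtain ⟨t, h1, h3, h4⟩ := h.char h2 hn2
  have hS := ck_card h.trans h.free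
  set n := Nat.card Ω with hn
  set N := normalizer (S : Set D)
  set k := S.relIndex N
  have hN : n * k = Nat.card N := by
    rw [← hS, ← Nat.card_congr (subgroupOfEquivOfLe (le_normalizer (H := S))).toEquiv]
    exact (S.subgroupOf N).card_mul_index
  have hk : 0 < k := Nat.pos_of_ne_zero (S.subgroupOf N).index_ne_zero_of_finite
  let P : D → Prop := fun g => ∃ x, x * g * x⁻¹ ∈ S ∧ g ≠ 1
  set V := Finset.univ.filter P with hV
  have hc : V.card * (n * k) ≤ Nat.card D * (n - 1) := by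
    have hx : ∀ g, ∃ x, P g → x * g * x⁻¹ ∈ S := fun g => by
      by_cases hp : P g
      · obtain ⟨x, hx, -⟩ := hp; exact ⟨x, fun _ => hx⟩
      · exact ⟨1, fun h' => absurd h' hp⟩
    choose x hx using hx
    have := Finset.card_le_card_of_injOn (s := V ×ˢ Finset.univ.filter (· ∈ N))
      (t := Finset.univ ×ˢ (Finset.univ.filter (· ∈ S)).erase 1)
      (fun p : D × D => (p.2 * x p.1, p.2 * x p.1 * p.1 * (p.2 * x p.1)⁻¹)) (fun p hp => by
        simp only [hV, Finset.coe_product, Set.mem_prod, Finset.mem_coe, Finset.mem_filter,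
          Finset.mem_univ, true_and, Finset.mem_erase] at hp ⊢
        refine ⟨fun e => ?_, ?_⟩
        · obtain ⟨_, _, h'⟩ := hp.1
          rw [mul_inv_eq_one, mul_eq_left] at e
          exact h' e
        · have := (mem_normalizer_iff.1 hp.2 _).1 (hx _ hp.1)
          convert this using 1; group) (fun p _ q _ e => by
        obtain ⟨e1, e2⟩ := Prod.mk.inj e
        rw [e1, mul_left_inj, mul_right_inj] at e2
        rw [e2, mul_left_inj] at e1
        exact Prod.ext e2 e1)
    rwa [Finset.card_product, Finset.card_product, ck_filter, Finset.card_univ,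
      Finset.card_erase_of_mem (by simp), ck_filter, hS, ← hN, ← Nat.card_eq_fintype_card] at this
  have hb := Recog.burnside_nat D Ω
  rw [Recog.card_orbits_eq_one, one_mul] at hb
  let f : D → ℤ := fun g => ((Nat.card (fixedBy Ω g) : ℤ) - 1) * (n - Nat.card (fixedBy Ω g))
  have s1 : ∑ g, f g = -(t * Nat.card D) := by
    have e1 : ∑ g : D, (Nat.card (fixedBy Ω g) : ℤ) = Nat.card D := by exact_mod_cast hb
    have e2 : ∑ g : D, (Nat.card (fixedBy Ω g) : ℤ) ^ 2 = (t + 1) * Nat.card D := by exact_mod_cast h1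
    have e3 : ∀ g, f g = (n + 1) * (Nat.card (fixedBy Ω g) : ℤ) - (Nat.card (fixedBy Ω g) : ℤ) ^ 2 - n :=
      fun g => by simp only [f]; ring
    simp only [e3, Finset.sum_sub_distrib, ← Finset.mul_sum, e1, e2, Finset.sum_const,
      Finset.card_univ, nsmul_eq_mul]
    rw [← Nat.card_eq_fintype_card]; ring
  have s2 : ∑ g ∈ V, f g = -(n * V.card) := by
    rw [Finset.sum_congr rfl (g := fun _ => -(n : ℤ)) fun g hg => by
      obtain ⟨x, hx, h'⟩ := (Finset.mem_filter.1 hg).2
      simp only [f, ck_zero h.free hx h']; simp]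
    simp [mul_comm]
  have s3 := Finset.sum_filter_add_sum_filter_not Finset.univ P f
  have hle : ∀ g : D, Nat.card (fixedBy Ω g) ≤ n := fun g =>
    Nat.card_le_card_of_injective _ Subtype.val_injective
  have nn : ∀ g ∈ Finset.univ.filter (fun g => ¬ P g), 0 ≤ f g := fun g hg => by
    have := h4 g fun x hx => by_contra fun h' => (Finset.mem_filter.1 hg).2 ⟨x, hx, h'⟩
    have := hle g
    exact mul_nonneg (by omega) (by omega)
  have s4 : ∑ g ∈ Finset.univ.filter (fun g => ¬ P g), f g ≤ 0 := by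
    have e : ∑ g ∈ Finset.univ.filter (fun g => ¬ P g), f g = n * V.card - t * Nat.card D := by
      rw [← hV, s1, s2] at s3; linarith
    have hc' : V.card * (n * k) ≤ Nat.card D * (t * k) := hc.trans (Nat.mul_le_mul_left _ h3)
    have hc'' : n * V.card ≤ t * Nat.card D := Nat.le_of_mul_le_mul_right (by nlinarith) hk
    rw [e, sub_nonpos]; exact_mod_cast hc''
  by_cases hp : P g
  · obtain ⟨x, hx, h'⟩ := hp
    rw [ck_zero h.free hx h']; omega
  have s5 := (Finset.sum_eq_zero_iff_of_nonneg nn).1 (le_antisymm s4 (Finset.sum_nonneg nn)) g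
    (Finset.mem_filter.2 ⟨Finset.mem_univ g, hp⟩)
  rcases mul_eq_zero.1 s5 with e | e
  · omega
  · refine absurd (h.faith g fun a => ?_) hg
    have e' : (fixedBy Ω g).ncard = Nat.card Ω := by rw [← Nat.card_coe_set_eq]; omega
    exact (Set.eq_univ_iff_ncard _).2 e' ▸ Set.mem_univ a |> fun (h' : a ∈ fixedBy Ω g) => h'

theorem normal_of_frob {G Ω : Type*} [Group G] [Finite G] [MulAction G Ω] [Finite Ω] [Nonempty Ω]
    (hfr : ∀ g : G, g ≠ 1 → Nat.card (fixedBy Ω g) ≤ 1) {S : Subgroup G}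
    (trans : ∀ a b : Ω, ∃ y ∈ S, y • a = b) (free : ∀ y ∈ S, ∀ a : Ω, y • a = a → y = 1) :
    S.Normal := by
  classical
  haveI := Fintype.ofFinite G
  haveI : IsPretransitive G Ω := ⟨fun a b => let ⟨y, _, e⟩ := trans a b; ⟨y, e⟩⟩
  have hS := ck_card trans free
  have hb := Recog.burnside_nat G Ω
  rw [Recog.card_orbits_eq_one, one_mul] at hb
  set E := Finset.univ.filter (fun g : G => Nat.card (fixedBy Ω g) = 0) with hE
  have h1 : Nat.card (fixedBy Ω (1 : G)) = Nat.card Ω := by simp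
  have hp : 0 < Nat.card Ω := Nat.card_pos
  have hc : E.card ≤ Nat.card Ω - 1 := by
    have e1 : ∑ g : G, (Nat.card (fixedBy Ω g) + if Nat.card (fixedBy Ω g) = 0 then 1 else 0) ≤
        ∑ g : G, (1 + if g = 1 then Nat.card Ω - 1 else 0) := Finset.sum_le_sum fun g _ => by
      by_cases hg : g = 1
      · rw [hg, h1, if_neg hp.ne', if_pos rfl]; omega
      · have := hfr g hg
        rw [if_neg hg]; split_ifs <;> omega
    rw [Finset.sum_add_distrib, Finset.sum_add_distrib, hb, Finset.sum_boole, Finset.sum_ite_eq',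
      if_pos (Finset.mem_univ _), Finset.sum_const, Finset.card_univ, ← Nat.card_eq_fintype_card,
      smul_eq_mul, mul_one, Nat.cast_id] at e1
    exact (Nat.add_le_add_iff_left.1 e1 :)
  have hsub : (Finset.univ.filter (· ∈ S)).erase 1 ⊆ E := fun y hy => by
    simp only [Finset.mem_erase, Finset.mem_filter, Finset.mem_univ, true_and, hE] at hy ⊢
    exact ck_zero free (x := 1) (by simpa using hy.2) hy.1
  have heq := Finset.eq_of_subset_of_card_le hsub (by
    rwa [Finset.card_erase_of_mem (by simp), ck_filter, hS])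
  refine ⟨fun y hy x => ?_⟩
  by_cases h' : x * y * x⁻¹ = 1
  · rw [h']; exact one_mem S
  · have : x * y * x⁻¹ ∈ E := Finset.mem_filter.2 ⟨Finset.mem_univ _,
      ck_zero free (x := x⁻¹) (by simpa [mul_assoc] using hy) h'⟩
    rw [← heq] at this
    exact (Finset.mem_filter.1 (Finset.mem_erase.1 this).2).2

end CfsgLib.DIX
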