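import Cfsg.Agent.Lib.DIX.Defs

/-! DIX/CN. `N = normalizer S`, `ψ = indFun S (l - m)`. TI: if `1 ≠ y ∈ S` and `x y x⁻¹ ∈ S` then `x ∈ N` (by `cent`, `S` is the
centralizer of `y` and of `x y x⁻¹`). As `(l - m) 1 = 0` (`irr_one_eq_one_of_comm`), for all `y ∈ S`:
`ψ y = |S|⁻¹ ∑_{k ∈ N} (l - m) (k y k⁻¹)` (`indFun_apply'`). Frobenius reciprocity (`classInner_indFun_left`):
`⟨ψ, ψ⟩ = ⟨l - m, ψ|S⟩ = |S|⁻¹ ∑_{k ∈ N} ⟨l - m, l^k - m^k⟩`, where `l^k = l ∘ conj k` is irreducible (`isIrr_comp_mulEquiv`).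
`l^k = l` for `k ∈ S`; for `k ∈ N \ S`, `l^k ≠ l`: `y ↦ k y k⁻¹ y⁻¹` is injective on the commutative group `S` (`cent`), so onto,
and `l` is multiplicative (`char_mul_of_one_eq_one`), so `l^k = l` would give `l = 1`. The same for `m`. `m ≠ l^k` and
`l ≠ m^k` (use `k⁻¹`) by `hnc`. The sum is `|S|⁻¹ * 2 |S|`. -/

set_option autoImplicit false
set_option linter.unusedSectionVars false
set_option linter.unusedVariables false

namespace CfsgLib.DIX
open MulAction Subgroup
open Cfsg CfsgLib.Char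

section
variable {D : Type*} [Group D] [Fintype D] {S : Subgroup D}

theorem cn_ti (comm : ∀ a ∈ S, ∀ b ∈ S, a * b = b * a)
    (cent : ∀ y ∈ S, y ≠ 1 → ∀ d : D, d * y = y * d → d ∈ S) {y x : D} (hy : y ∈ S) (h1 : y ≠ 1)
    (hx : x * y * x⁻¹ ∈ S) : x ∈ normalizer (S : Set D) := by
  have h2 : x * y * x⁻¹ ≠ 1 := fun e => h1 (by
    have : y = x⁻¹ * (x * y * x⁻¹) * x := by group
    rw [this, e]; group)
  intro n
  constructor
  · intro hn
    refine cent _ hx h2 _ ?_
    calc x * n * x⁻¹ * (x * y * x⁻¹) = x * (n * y) * x⁻¹ := by group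
      _ = x * (y * n) * x⁻¹ := by rw [comm n hn y hy]
      _ = _ := by group
  · intro hn
    refine cent _ hy h1 _ ?_
    have := comm _ hn _ hx
    calc n * y = x⁻¹ * (x * n * x⁻¹ * (x * y * x⁻¹)) * x := by group
      _ = x⁻¹ * (x * y * x⁻¹ * (x * n * x⁻¹)) * x := by rw [this]
      _ = _ := by group

open Classical in
theorem cn_res (comm : ∀ a ∈ S, ∀ b ∈ S, a * b = b * a)
    (cent : ∀ y ∈ S, y ≠ 1 → ∀ d : D, d * y = y * d → d ∈ S) {θ : S → ℂ} (h1 : θ 1 = 0) (y : S) :
    indFun S θ y = (Nat.card S : ℂ)⁻¹ *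
      ∑ k : normalizer (S : Set D), θ (S.normalizerMonoidHom k y) := by
  rw [indFun_apply']
  congr 1
  have e1 : ∑ k : normalizer (S : Set D), θ (S.normalizerMonoidHom k y) =
      ∑ k : normalizer (S : Set D), extendByZero S θ ((k : D) * y * (k : D)⁻¹) :=
    Finset.sum_congr rfl fun k _ => (extendByZero_coe S θ (S.normalizerMonoidHom k y)).symm
  rw [e1, ← Finset.sum_subtype (Finset.univ.filter fun x : D => x ∈ normalizer (S : Set D))
    (by simp) (fun x : D => extendByZero S θ (x * y * x⁻¹))]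
  symm
  refine Finset.sum_subset (Finset.filter_subset _ _) fun x _ hx => ?_
  have hx' : x ∉ normalizer (S : Set D) := by simpa using hx
  by_cases hm : x * y * x⁻¹ ∈ S
  · by_cases hy : (y : D) = 1
    · rw [hy, mul_one, mul_inv_cancel, extendByZero_one, h1]
    · exact absurd (cn_ti comm cent y.2 hy hm) hx'
  · exact extendByZero_of_not_mem S θ hm

theorem cn_ne [Fintype S] (comm : ∀ a ∈ S, ∀ b ∈ S, a * b = b * a)
    (cent : ∀ y ∈ S, y ≠ 1 → ∀ d : D, d * y = y * d → d ∈ S) {l : IrrCharacter S}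
    (hl : l ≠ irrOne S) {k : normalizer (S : Set D)} (hk : (k : D) ∉ S) :
    (l : S → ℂ) ≠ fun y => (l : S → ℂ) (S.normalizerMonoidHom k y) := by
  intro e
  have : IsMulCommutative S := ⟨⟨fun a b => Subtype.ext (comm _ a.2 _ b.2)⟩⟩
  have h1 : (l : S → ℂ) 1 = 1 := irr_one_eq_one_of_comm l.2
  have hmul := char_mul_of_one_eq_one (irr_isCharacter l) h1
  let f : S → S := fun y => S.normalizerMonoidHom k y * y⁻¹
  have hf : Function.Injective f := by
    intro a b hab
    by_contra hne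
    have h2 : (k : D) * a * (k : D)⁻¹ * (a : D)⁻¹ = k * b * (k : D)⁻¹ * (b : D)⁻¹ :=
      congrArg Subtype.val hab
    have h3 : (b : D)⁻¹ * a ≠ 1 := fun e => hne (Subtype.ext (inv_mul_eq_one.1 e).symm)
    refine hk (cent _ (S.mul_mem (S.inv_mem b.2) a.2) h3 k ?_)
    have h4 : (k : D) * a * (k : D)⁻¹ = k * b * (k : D)⁻¹ * ((b : D)⁻¹ * a) := by
      rw [← mul_assoc, ← h2]; group
    calc (k : D) * ((b : D)⁻¹ * a) = ((k : D) * b * (k : D)⁻¹)⁻¹ * ((k : D) * a * (k : D)⁻¹) * k := by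
          group
      _ = _ := by rw [h4]; group
  have hs : Function.Surjective f := Finite.surjective_of_injective hf
  refine hl (Subtype.ext (funext fun y => ?_))
  obtain ⟨x, rfl⟩ := hs y
  change (l : S → ℂ) (S.normalizerMonoidHom k x * x⁻¹) = 1
  rw [hmul, ← congrFun e x, ← hmul, mul_inv_cancel, h1]

end

theorem norm_ind {D : Type*} [Group D] [Fintype D] {S : Subgroup D} [Fintype S]
    (comm : ∀ a ∈ S, ∀ b ∈ S, a * b = b * a)
    (cent : ∀ y ∈ S, y ≠ 1 → ∀ d : D, d * y = y * d → d ∈ S)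
    {l m : IrrCharacter S} (hl : l ≠ irrOne S) (hm : m ≠ irrOne S)
    (hnc : ∀ k ∈ normalizer (S : Set D),
      ¬ ∀ (y : S) (hy : k * y * k⁻¹ ∈ S), (m : S → ℂ) y = (l : S → ℂ) ⟨_, hy⟩) :
    classInner (indFun S ((l : S → ℂ) - (m : S → ℂ))) (indFun S ((l : S → ℂ) - (m : S → ℂ))) = 2 := by
  classical
  have : IsMulCommutative S := ⟨⟨fun a b => Subtype.ext (comm _ a.2 _ b.2)⟩⟩
  have h0 : ((l : S → ℂ) - (m : S → ℂ)) 1 = 0 := by
    rw [Pi.sub_apply, irr_one_eq_one_of_comm l.2, irr_one_eq_one_of_comm m.2, sub_self]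
  rw [classInner_indFun_left S _ (isClassFunction_indFun S _)]
  have e1 : (fun y : S => indFun S ((l : S → ℂ) - (m : S → ℂ)) y) =
      (Nat.card S : ℂ)⁻¹ • ∑ k : normalizer (S : Set D),
        ((fun y => (l : S → ℂ) (S.normalizerMonoidHom k y)) -
          fun y => (m : S → ℂ) (S.normalizerMonoidHom k y)) := by
    funext y
    rw [cn_res comm cent h0, Pi.smul_apply, Finset.sum_apply, smul_eq_mul]
    rfl
  rw [e1, classInner_smul_right, classInner_sum_right]
  have e2 : ∀ k : normalizer (S : Set D), classInner ((l : S → ℂ) - (m : S → ℂ))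
      ((fun y => (l : S → ℂ) (S.normalizerMonoidHom k y)) -
        fun y => (m : S → ℂ) (S.normalizerMonoidHom k y)) = if (k : D) ∈ S then 2 else 0 := by
    intro k
    have il := isIrr_comp_mulEquiv (S.normalizerMonoidHom k) l.2
    have im := isIrr_comp_mulEquiv (S.normalizerMonoidHom k) m.2
    have c1 : (m : S → ℂ) ≠ fun y => (l : S → ℂ) (S.normalizerMonoidHom k y) := fun e =>
      hnc k k.2 fun y hy => congrFun e y
    have c2 : (l : S → ℂ) ≠ fun y => (m : S → ℂ) (S.normalizerMonoidHom k y) := fun e =>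
      hnc (k : D)⁻¹ (inv_mem k.2) fun y hy => by
        rw [congrFun e ⟨_, hy⟩]
        refine congrArg (m : S → ℂ) (Subtype.ext ?_)
        change (y : D) = k * ((k : D)⁻¹ * y * (k : D)⁻¹⁻¹) * (k : D)⁻¹
        group
    rw [classInner_sub_left, classInner_sub_right, classInner_sub_right,
      classInner_irr_of_ne l.2 im c2, classInner_irr_of_ne m.2 il c1]
    split_ifs with hk
    · have e3 : ∀ y : S, S.normalizerMonoidHom k y = y := fun y => Subtype.ext (by
        change (k : D) * y * (k : D)⁻¹ = y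
        rw [comm _ hk _ y.2]; group)
      simp only [e3]
      rw [classInner_irr_self l.2, classInner_irr_self m.2]
      norm_num
    · rw [classInner_irr_of_ne l.2 il (cn_ne comm cent hl hk),
        classInner_irr_of_ne m.2 im (cn_ne comm cent hm hk)]
      norm_num
  rw [Finset.sum_congr rfl fun k _ => e2 k, ← Finset.sum_filter, Finset.sum_const, nsmul_eq_mul]
  have e4 : (Finset.univ.filter fun k : normalizer (S : Set D) => (k : D) ∈ S).card = Nat.card S := by
    rw [← Fintype.card_subtype, ← Nat.card_eq_fintype_card]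
    exact Nat.card_congr (subgroupOfEquivOfLe (le_normalizer (H := S))).toEquiv
  rw [e4, map_inv₀, map_natCast, ← mul_assoc, inv_mul_cancel₀ natCard_ne_zero, one_mul]

end CfsgLib.DIX
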