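import Mathlib
import Cfsg.Agent.Lib.Recog.Derang
import Cfsg.Agent.Lib.Frob.Action
import Cfsg.Agent.Lib.Char.Induce
import Cfsg.Agent.Lib.Char.PermChar

/-! Project DIX (index of the derangement subgroup): definitions. -/

set_option autoImplicit false
set_option linter.unusedSectionVars false
set_option linter.unusedVariables false

namespace CfsgLib.DIX
open MulAction Subgroup
open Cfsg CfsgLib.Char

/-- `D` is a transitive normal subgroup of the faithful group `G`, and every element outside `D`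
fixes at most one point. -/
structure Dat (G Ω : Type*) [Group G] [MulAction G Ω] (D : Subgroup G) : Prop where
  normal : D.Normal
  trans : ∀ a b : Ω, ∃ d ∈ D, d • a = b
  one : ∀ x : G, x ∉ D → ∀ a b : Ω, x • a = a → x • b = b → a = b
  faith : ∀ g : G, (∀ a : Ω, g • a = a) → g = 1

/-- `S` is a regular commutative Sylow `s`-subgroup of `D` whose normalizer supplements `D`. -/
structure Reg (G Ω : Type*) [Group G] [MulAction G Ω] (D S : Subgroup G) (s : ℕ) : Prop where
  prime : s.Prime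
  le : S ≤ D
  pg : IsPGroup s S
  syl : ¬ s ∣ S.relIndex D
  comm : ∀ a ∈ S, ∀ b ∈ S, a * b = b * a
  trans : ∀ a b : Ω, ∃ y ∈ S, y • a = b
  free : ∀ y ∈ S, ∀ a : Ω, y • a = a → y = 1
  sup : ∀ g : G, ∃ x ∈ normalizer (S : Set G), x⁻¹ * g ∈ D

/-- `S` is a regular commutative subgroup of the faithful group `D` that is the centralizer of
each of its non-identity elements. -/
structure CD (D Ω : Type*) [Group D] [MulAction D Ω] (S : Subgroup D) : Prop where
  faith : ∀ g : D, (∀ a : Ω, g • a = a) → g = 1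
  comm : ∀ a ∈ S, ∀ b ∈ S, a * b = b * a
  trans : ∀ a b : Ω, ∃ y ∈ S, y • a = b
  free : ∀ y ∈ S, ∀ a : Ω, y • a = a → y = 1
  cent : ∀ y ∈ S, y ≠ 1 → ∀ d : D, d * y = y * d → d ∈ S

/-- `Θ` is the set of non-principal constituents of the (multiplicity free) permutation character
and `ch l` is the unique one lying over the non-principal linear character `l` of `S`. -/
structure Con (D Ω : Type*) [Group D] [MulAction D Ω] (S : Subgroup D) [Fintype S]
    (Θ : Finset (IrrCharacter D)) (ch : IrrCharacter S → IrrCharacter D) : Prop where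
  one_notMem : irrOne D ∉ Θ
  perm : ∀ g : D, (Nat.card (fixedBy Ω g) : ℂ) = 1 + ∑ θ ∈ Θ, (θ : D → ℂ) g
  mem : ∀ l : IrrCharacter S, l ≠ irrOne S → ch l ∈ Θ
  inner_self : ∀ l : IrrCharacter S, l ≠ irrOne S →
    classInner (fun y : S => (ch l : D → ℂ) y) (l : S → ℂ) = 1
  inner_ne : ∀ l : IrrCharacter S, l ≠ irrOne S → ∀ θ ∈ Θ, θ ≠ ch l →
    classInner (fun y : S => (θ : D → ℂ) y) (l : S → ℂ) = 0
  surj : ∀ θ ∈ Θ, ∃ l : IrrCharacter S, l ≠ irrOne S ∧ ch l = θ

section aff
variable (L V : Type*) [Group L] [CommGroup V] [MulDistribMulAction L V]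

/-- `L` acts faithfully on `V`, and the elements outside the normal subgroup `K` fix only `1`. -/
structure Aff (K : Subgroup L) : Prop where
  normal : K.Normal
  faith : ∀ g : L, (∀ v : V, g • v = v) → g = 1
  fpf : ∀ g : L, g ∉ K → ∀ v : V, g • v = v → v = 1

/-- No proper non-trivial invariant subgroup. -/
def Irr : Prop := ∀ W : Subgroup V, (∀ g : L, ∀ w ∈ W, g • w ∈ W) → W = ⊥ ∨ W = ⊤

variable {L}

/-- `C` acts semiregularly on the non-identity elements of `V`. -/
def SR (C : Subgroup L) : Prop := ∀ c ∈ C, ∀ v : V, c • v = v → c = 1 ∨ v = 1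

/-- The fixed points of `g`. -/
def Fix (g : L) : Subgroup V where
  carrier := {v | g • v = v}
  one_mem' := smul_one g
  mul_mem' := fun {a b} ha hb => by
    change g • (a * b) = a * b
    rw [smul_mul', show g • a = a from ha, show g • b = b from hb]
  inv_mem' := fun {a} ha => by
    change g • a⁻¹ = a⁻¹
    rw [smul_inv', show g • a = a from ha]

/-- Data of extraspecial type. -/
structure ES (K Y : Subgroup L) (q : ℕ) (z : L) : Prop where
  prime : q.Prime
  normal : Y.Normal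
  le : Y ≤ K
  zmem : z ∈ Y
  zord : orderOf z = q
  zcent : ∀ y ∈ Y, z * y = y * z
  zfpf : ∀ v : V, z • v = v → v = 1
  comm : ∀ x ∈ Y, ∀ y ∈ Y, x * y * x⁻¹ * y⁻¹ ∈ zpowers z
  fixp : ∀ y ∈ Y, y ≠ 1 → ∀ v : V, v ≠ 1 → y • v = v → y ^ q = 1 ∧ ∃ x ∈ Y, x * y ≠ y * x
  ex : ∃ g ∈ Y, g ≠ 1 ∧ ∃ v : V, v ≠ 1 ∧ g • v = v

variable {V}

@[simp] theorem mem_Fix {g : L} {v : V} : v ∈ Fix V g ↔ g • v = v := Iff.rfl

end aff

/-- `Y` is the preimage of `Ω₁(Z(C_Q(C)/C))`, and it is bigger than `C`. -/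
structure YD {L : Type*} [Group L] (Q C Y : Subgroup L) (q : ℕ) : Prop where
  normal : Y.Normal
  mem : ∀ y : L, y ∈ Y ↔ y ∈ Q ∧ (∀ c ∈ C, c * y = y * c) ∧ y ^ q ∈ C ∧
    ∀ x ∈ Q, (∀ c ∈ C, c * x = x * c) → x * y * x⁻¹ * y⁻¹ ∈ C
  le : C ≤ Y
  nle : ¬ Y ≤ C

end CfsgLib.DIX
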