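import Cfsg.Agent.Lib.DIX.REG
import Cfsg.Agent.Lib.DIX.BR
import Cfsg.Agent.Lib.DIX.CG
import Cfsg.Agent.Lib.DIX.CK

/-! DIX/Main. If the degree is smaller than `(|G : D| + 1) ^ 2` then `G` is a Frobenius group or
regular, with a regular commutative normal subgroup. -/

set_option autoImplicit false
set_option linter.unusedSectionVars false
set_option linter.unusedVariables false

namespace CfsgLib.DIX
open MulAction Subgroup

variable {G Ω : Type*} [Group G] [MulAction G Ω] [Finite G] [Finite Ω] {D : Subgroup G}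

theorem main_card_le_one {g : G} (h : ∀ a b : Ω, g • a = a → g • b = b → a = b) :
    Nat.card (fixedBy Ω g) ≤ 1 :=
  Finite.card_le_one_iff_subsingleton.2 ⟨fun a b => Subtype.ext (h a b a.2 b.2)⟩

theorem Dat.exists_stab (h : Dat G Ω D) (hD : D ≠ ⊤) (a : Ω) : ∃ x : G, x ∉ D ∧ x • a = a := by
  obtain ⟨g, hg⟩ : ∃ g : G, g ∉ D := by
    by_contra hc
    push Not at hc
    exact hD (eq_top_iff.2 fun g _ => hc g)
  obtain ⟨d, hd, e⟩ := h.trans (g • a) a
  refine ⟨d * g, fun hm => hg ?_, by rw [mul_smul, e]⟩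
  exact (D.mul_mem_cancel_left hd).1 hm

theorem Dat.not_two (h : Dat G Ω D) (hD : D ≠ ⊤) (h2 : 2 ≤ Nat.card Ω) :
    ¬ IsMultiplyPretransitive D Ω 2 := by
  intro ht
  haveI : Nontrivial Ω := Finite.one_lt_card_iff_nontrivial.1 h2
  obtain ⟨a, b, hab⟩ := exists_pair_ne Ω
  obtain ⟨x, hx, hxa⟩ := h.exists_stab hD a
  have hab' : a ≠ x • b := fun e => hab (smul_left_cancel x (hxa.trans e))
  obtain ⟨d, h1, h3⟩ := (is_two_pretransitive_iff.1 ht) hab hab'
  have hx' : (d : G)⁻¹ * x ∉ D := fun hm => hx ((D.mul_mem_cancel_left (D.inv_mem d.2)).1 hm)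
  refine hab (h.one _ hx' a b ?_ ?_)
  · rw [mul_smul, hxa, inv_smul_eq_iff]; exact h1.symm
  · rw [mul_smul, inv_smul_eq_iff]; exact h3.symm

theorem Dat.frob (h : Dat G Ω D) (h2 : 2 ≤ Nat.card Ω) (hn : Nat.card Ω < (D.index + 1) ^ 2)
    {g : G} (hg : g ≠ 1) : Nat.card (fixedBy Ω g) ≤ 1 := by
  classical
  by_cases hD : D = ⊤
  · -- at most three points
    have h3 : Nat.card Ω ≤ 3 := by
      rw [hD, index_top] at hn
      omega
    refine main_card_le_one fun a b ha hb => ?_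
    by_contra hab
    refine hg (h.faith g fun c => ?_)
    by_contra hc
    have hca : c ≠ a := fun e => hc (e ▸ ha)
    have hcb : c ≠ b := fun e => hc (e ▸ hb)
    have h1 : g • c ≠ a := fun e => hca (smul_left_cancel g (e.trans ha.symm))
    have h4 : g • c ≠ b := fun e => hcb (smul_left_cancel g (e.trans hb.symm))
    haveI := Fintype.ofFinite Ω
    have h5 : ({a, b, c, g • c} : Finset Ω).card = 4 := by
      rw [Finset.card_insert_of_notMem, Finset.card_insert_of_notMem, Finset.card_pair (Ne.symm hc)]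
      · simp only [Finset.mem_insert, Finset.mem_singleton, not_or]
        exact ⟨Ne.symm hcb, Ne.symm h4⟩
      · simp only [Finset.mem_insert, Finset.mem_singleton, not_or]
        exact ⟨hab, Ne.symm hca, Ne.symm h1⟩
    have h6 := Finset.card_le_univ ({a, b, c, g • c} : Finset Ω)
    rw [h5, ← Nat.card_eq_fintype_card] at h6
    omega
  by_cases hgD : g ∈ D
  swap
  · exact main_card_le_one (h.one g hgD)
  haveI : Nontrivial Ω := Finite.one_lt_card_iff_nontrivial.1 h2
  obtain ⟨s, S, hr⟩ := h.reg h2 hn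
  obtain ⟨a⟩ : Nonempty Ω := inferInstance
  have hcd : CD D Ω (S.subgroupOf D) :=
    { faith := fun d hd => Subtype.ext (h.faith d hd)
      comm := fun x hx y hy => Subtype.ext (hr.comm _ hx _ hy)
      trans := fun x y => by
        obtain ⟨t, ht, e⟩ := hr.trans x y
        exact ⟨⟨t, hr.le ht⟩, ht, e⟩
      free := fun y hy x e => Subtype.ext (hr.free _ hy x e)
      cent := fun y hy hy1 d hd =>
        hr.cent h a (fun k hk hka t ht hc => hr.fpf h hn hk hka ht hc) hy
          (fun e => hy1 (Subtype.ext e)) d.2 (congrArg Subtype.val hd) }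
  haveI := Fintype.ofFinite D
  haveI := Fintype.ofFinite (S.subgroupOf D)
  exact hcd.frob h2 (h.not_two hD h2) (g := ⟨g, hgD⟩) (fun e => hg (congrArg Subtype.val e))

theorem Dat.exists_normal (h : Dat G Ω D) (h2 : 2 ≤ Nat.card Ω)
    (hn : Nat.card Ω < (D.index + 1) ^ 2) :
    ∃ S : Subgroup G, S.Normal ∧ IsMulCommutative S ∧ S ≠ ⊥ := by
  haveI : Nontrivial Ω := Finite.one_lt_card_iff_nontrivial.1 h2
  obtain ⟨s, S, hr⟩ := h.reg h2 hn
  refine ⟨S, normal_of_frob (fun g hg => h.frob h2 hn hg) hr.trans hr.free,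
    ⟨⟨fun x y => Subtype.ext (hr.comm _ x.2 _ y.2)⟩⟩, fun e => ?_⟩
  obtain ⟨a, b, hab⟩ := exists_pair_ne Ω
  obtain ⟨y, hy, e'⟩ := hr.trans a b
  rw [e, mem_bot] at hy
  rw [hy, one_smul] at e'
  exact hab e'

theorem dat_derSub [FaithfulSMul G Ω] [IsPretransitive G Ω] :
    Dat G Ω (CfsgLib.Recog.derSub G Ω) where
  normal := CfsgLib.Recog.derSub_normal G Ω
  trans := fun a b => by
    haveI := (CfsgLib.Recog.derSub_key G Ω).1
    obtain ⟨d, e⟩ := exists_smul_eq (CfsgLib.Recog.derSub G Ω) a b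
    exact ⟨d, d.2, e⟩
  one := fun x hx a b ha hb => by
    by_contra hab
    exact hx (CfsgLib.Recog.mem_derSub_of_fix_two hab ha hb)
  faith := fun g hg => FaithfulSMul.eq_of_smul_eq_smul (α := Ω) fun a => by rw [hg, one_smul]

theorem real_bound {m n : ℕ} (h : (m + 1) ^ 2 ≤ n) : (m : ℝ) ≤ Real.sqrt n - 1 := by
  rw [le_sub_iff_add_le]
  apply Real.le_sqrt_of_sq_le
  exact_mod_cast h

end CfsgLib.DIX
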