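import Cfsg.Agent.Lib.DIX.IMP
import Cfsg.Agent.Lib.LAE.Sylow

/-! DIX/PP. Fix `α`; `n = |Ω| = |D : D_α|`, `D_α = D ⊓ stab α`. `T` = Sylow `s`-subgroup of `D_α`, `M = normalizer T`.
Frattini in `G_α` (`D_α` is normal in it): `G_α = D_α (M ⊓ G_α)`; with `G = D G_α` every `g` is `d m`, `d ∈ D`, `m ∈ M ⊓ G_α`.
`S₁` = Sylow `s`-subgroup of `M ⊓ D` containing `T`. `T < S₁`: as `s ∣ n`, `T` is not Sylow in `D`, so `T < P ≤ D` for an
`s`-group `P` and `T < N_P(T) ≤ M ⊓ D` (normalizer condition), so `T` is not Sylow in `M ⊓ D`. `H = M ⊓ normalizer S₁`;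
Frattini in `M`: `M = (M ⊓ D) H`, so `H` supplements `D` and `(D.subgroupOf H).index = D.index = m`.
CLAIM: if `x ∈ H \ D` commutes with `y ∈ S₁` then `y ∈ T`. `B` = orbit of `α` under `M ⊓ D`; it is `M`-invariant
(`x ∈ M` is `d m` with `m ∈ M ⊓ G_α`, `d ∈ M ⊓ D`); `fix_mem` gives `γ = d • α ∈ B` fixed by `x`; `x` also fixes `y • γ`, so
`y • γ = γ` (`one`). `d⁻¹ y d ∈ D_α` lies in the `s`-group `d⁻¹ S₁ d ⊓ D_α ≥ T`, which is `T` by Sylow maximality;
so `y ∈ T` as `d ∈ M`.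
So `dvd_ncard` (conjugation action of `H` on `G`, e.g. via `ConjAct` or `MulAction.compHom`, set `S₁ \ T`) gives
`m ∣ |S₁| - |T| = |T| (r - 1)`, `r = |S₁ : T| = s ^ k > 1`; `m ∣ n - 1` and `s ∣ n` make `m` prime to `|T|`, so `m ∣ r - 1`.
`r ∣ n`: `|T| r = |S₁| ∣ |D| = n |D_α| = n |T| |D_α : T|` and `s ∤ |D_α : T|`.
The Sylow API of `CfsgLib.LAE` (`IsSylowIn`, `frattini`, `exists_isSylowIn_ge`) may help. -/

set_option autoImplicit false
set_option linter.unusedSectionVars false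
set_option linter.unusedVariables false

namespace CfsgLib.DIX
open MulAction Subgroup

variable {G Ω : Type*} [Group G] [MulAction G Ω] [Finite G] [Finite Ω] {D : Subgroup G}

open CfsgLib.LAE in
theorem pp_syl {p : ℕ} [Fact p.Prime] {T H : Subgroup G} (h : IsSylowIn p T (normalizer (T : Set G) ⊓ H)) :
    IsSylowIn p T H := by
  obtain ⟨P, hP, hle⟩ := exists_isSylowIn_ge h.isPGroup (h.le.trans inf_le_right)
  have e : P ⊓ normalizer (T : Set G) = T := h.eq_of_le _ (hP.isPGroup.to_le inf_le_left)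
    (le_inf hle le_normalizer) (le_inf inf_le_right (inf_le_left.trans hP.le))
  haveI := hP.isPGroup.isNilpotent
  by_contra hn
  have h1 : T.subgroupOf P < ⊤ := lt_top_iff_ne_top.2 fun e1 =>
    hn ((le_antisymm (subgroupOf_eq_top.1 e1) hle) ▸ hP)
  obtain ⟨x, hx, hx'⟩ := SetLike.exists_of_lt (normalizerCondition_of_isNilpotent (G := P) _ h1)
  rw [← subgroupOf_normalizer_eq hle] at hx
  exact hx' (show (x : G) ∈ T from e ▸ ⟨x.2, hx⟩)

theorem Dat.pp (h : Dat G Ω D) [Nonempty Ω] {s : ℕ} (hs : s.Prime) (hd : s ∣ Nat.card Ω) :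
    ∃ k : ℕ, s ^ k ∣ Nat.card Ω ∧ D.index + 1 ≤ s ^ k := by
  haveI := Fact.mk hs
  haveI := h.normal
  obtain ⟨α⟩ := ‹Nonempty Ω›
  have hn : (D ⊓ stabilizer G α).relIndex D = Nat.card Ω := by
    haveI : IsPretransitive D Ω := ⟨fun a b => by
      obtain ⟨d, hd, e⟩ := h.trans a b
      exact ⟨⟨d, hd⟩, e⟩⟩
    rw [inf_relIndex_left, ← index_stabilizer_of_transitive D α]
    rfl
  obtain ⟨T, hT⟩ := LAE.exists_isSylowIn s (D ⊓ stabilizer G α)
  have hA : ∀ g : G, ∃ d ∈ D, ∃ m ∈ normalizer (T : Set G), m • α = α ∧ g = d * m := fun g => by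
    obtain ⟨d, hd, e⟩ := h.trans α (g • α)
    have h1 : d⁻¹ * g ∈ stabilizer G α := by rw [mem_stabilizer_iff, mul_smul, ← e, inv_smul_smul]
    obtain ⟨n, hn, y, hy, e1⟩ := hT.frattini (LAE.le_normalizer_inf (L := stabilizer G α)
      (le_top.trans (normalizer_eq_top D).ge) le_normalizer h1)
    refine ⟨d * n, mul_mem hd hn.1, y, hy, ?_, by rw [mul_assoc, ← e1, mul_inv_cancel_left]⟩
    have := mul_mem (inv_mem (mem_inf.1 hn).2) h1
    rwa [e1, inv_mul_cancel_left] at this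
  have hTD : T ≤ D := hT.le.trans inf_le_left
  obtain ⟨S, hS, hTS⟩ := LAE.exists_isSylowIn_ge (H := normalizer (T : Set G) ⊓ D) hT.isPGroup
    (le_inf le_normalizer hTD)
  have hSD : S ≤ D := hS.le.trans inf_le_right
  have hmul : T.relIndex (D ⊓ stabilizer G α) * Nat.card Ω = T.relIndex S * S.relIndex D := by
    rw [← hn, relIndex_mul_relIndex _ _ _ hT.le inf_le_left, relIndex_mul_relIndex _ _ _ hTS hSD]
  obtain ⟨k, hk⟩ : ∃ k, T.relIndex S = s ^ k := hS.isPGroup.index (T.subgroupOf S)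
  have hk1 : k ≠ 0 := by
    rintro rfl
    rw [pow_zero, relIndex_eq_one] at hk
    have := (pp_syl (le_antisymm hk hTS ▸ hS)).not_dvd_relIndex
    rw [← relIndex_mul_relIndex _ _ _ hT.le inf_le_left, hn] at this
    exact this (hd.mul_left _)
  refine ⟨k, (Nat.Coprime.pow_left k hT.coprime_relIndex.symm).dvd_of_dvd_mul_left
    (by rw [hmul, hk]; exact dvd_mul_right _ _), ?_⟩
  obtain ⟨H, hH⟩ : ∃ H : Subgroup G, H = normalizer (T : Set G) ⊓ normalizer (S : Set G) := ⟨_, rfl⟩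
  have hidx : (D.subgroupOf H).index = D.index := index_subgroupOf_of_sup h.normal fun g => by
    obtain ⟨d, hd, m, hm, -, rfl⟩ := hA g
    obtain ⟨y, hy, n, hn, rfl⟩ := hS.frattini' (LAE.le_normalizer_inf (L := normalizer (T : Set G))
      le_normalizer (le_top.trans (normalizer_eq_top D).ge) hm)
    refine ⟨y, hH ▸ ⟨(Subgroup.mul_mem_cancel_right _ hn.1).1 hm, hy⟩, ?_⟩
    rw [show y⁻¹ * (d * (y * n)) = y⁻¹ * d * y⁻¹⁻¹ * n by group]
    exact mul_mem (h.normal.conj_mem _ hd _) hn.2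
  have claim : ∀ x ∈ normalizer (T : Set G), x ∉ D → ∀ y ∈ S, x * y = y * x → y ∈ T := by
    intro x hx hxD y hy hc
    obtain ⟨_, ⟨d, hd, rfl⟩, e⟩ := h.fix_mem (Y := normalizer (T : Set G) ⊓ D) inf_le_right
      (B := {b | ∃ d ∈ normalizer (T : Set G) ⊓ D, d • α = b}) ⟨α, 1, one_mem _, one_smul _ _⟩
      (by rintro y hy _ ⟨d, hd, rfl⟩; exact ⟨y * d, mul_mem hy hd, mul_smul _ _ _⟩)
      (by rintro _ ⟨d, hd, rfl⟩ _ ⟨d', hd', rfl⟩
          exact ⟨d' * d⁻¹, mul_mem hd' (inv_mem hd), by rw [mul_smul, inv_smul_smul]⟩) hxD (by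
        rintro _ ⟨d, hd, rfl⟩
        obtain ⟨d', hd', m, hm, e1, e2⟩ := hA (x * d)
        refine ⟨d', ⟨(Subgroup.mul_mem_cancel_right _ hm).1 (e2 ▸ mul_mem hx hd.1), hd'⟩, ?_⟩
        rw [← mul_smul, e2, mul_smul, e1])
    have e1 : y • d • α = d • α := h.one x hxD _ _ (by rw [← mul_smul, hc, mul_smul, e]) e
    have e2 : LAE.conjS d⁻¹ S ⊓ (D ⊓ stabilizer G α) = T := hT.eq_of_le _
      ((LAE.isPGroup_conjS hS.isPGroup _).to_le inf_le_left) (le_inf (by
        rw [← LAE.mem_normalizer_iff_conjS.1 (inv_mem hd.1)]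
        exact LAE.conjS_mono hTS) hT.le) inf_le_right
    have e3 : d⁻¹ * y * d⁻¹⁻¹ ∈ T := e2 ▸ ⟨LAE.conj_mem_conjS.2 hy, h.normal.conj_mem _ (hSD hy) _, mem_stabilizer_iff.2 (by
      rw [inv_inv, mul_smul, mul_smul, e1, inv_smul_smul])⟩
    exact (mem_normalizer_iff.1 (inv_mem hd.1) y).2 e3
  letI : MulAction H G := MulAction.compHom G ((MulAut.conj (G := G)).comp H.subtype)
  have sm : ∀ (g : H) (y : G), g • y = g * y * (g : G)⁻¹ := fun _ _ => rfl
  have hdv := dvd_ncard (L := H) (K := D.subgroupOf H) ((S : Set G) \ T) (fun g y hy => by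
    have hg : (g : G) ∈ normalizer (T : Set G) ⊓ normalizer (S : Set G) := hH ▸ g.2
    exact ⟨(mem_normalizer_iff.1 hg.2 y).1 hy.1, fun e => hy.2 ((mem_normalizer_iff.1 hg.1 y).2 e)⟩)
    (fun y hy g hg => by
      by_contra hn
      have hg' : (g : G) ∈ normalizer (T : Set G) ⊓ normalizer (S : Set G) := hH ▸ g.2
      exact hy.2 (claim g hg'.1 hn y hy.1 (mul_inv_eq_iff_eq_mul.1 hg)))
  have hc : Nat.card T * s ^ k = Nat.card S := by
    rw [← hk, relIndex, ← (T.subgroupOf S).card_mul_index, Nat.card_congr (subgroupOfEquivOfLe hTS).toEquiv]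
  rw [hidx, Set.ncard_diff hTS, ← Nat.card_coe_set_eq, ← Nat.card_coe_set_eq, SetLike.coe_sort_coe,
    SetLike.coe_sort_coe, ← hc, ← Nat.mul_sub_one] at hdv
  have hcop : D.index.Coprime s := by
    have h1 : (Nat.card Ω - 1).Coprime (Nat.card Ω) := by
      obtain ⟨n, e⟩ := Nat.exists_eq_succ_of_ne_zero (Nat.card_pos (α := Ω)).ne'
      rw [e]; simp
    exact (h1.coprime_dvd_left h.index_dvd).coprime_dvd_right hd
  obtain ⟨j, hj⟩ := hT.isPGroup.exists_card_eq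
  have h2 : 1 < s ^ k := Nat.one_lt_pow hk1 hs.one_lt
  have := Nat.le_of_dvd (by omega) ((hj ▸ hcop.pow_right j).dvd_of_dvd_mul_left hdv)
  omega

end CfsgLib.DIX
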