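import Cfsg.Agent.Lib.DIX.PP
import Cfsg.Agent.Lib.LAE.Sylow

/-! DIX/REG. Two different primes dividing `n` give `(m + 1) ^ 2 ≤ s ^ k s' ^ k' ≤ n` by `pp`; so `n = s ^ a`, `a ≥ 1`
(`Nat.eq_prime_pow_of_unique_prime_dvd`). `S` = Sylow `s`-subgroup of `D` (as a subgroup of `G`). It is transitive:
`|S : S_α| = |S| / |S_α|`, and `|S_α| ∣ |D_α|`, `|D| = n |D_α|`, so `n ∣ |S : S_α|` = the orbit length (e.g.
`(stab).relIndex S` and coprime indices: `S.relIndex D` is prime to `(stab).relIndex D = n`). `H = normalizer S`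
supplements `D` (Frattini). `Dat.sub` for `H` (as `S ≤ D ⊓ H`), `index_subgroupOf_of_sup`, `Dat.imp`: `H` is primitive.
`Z = S ⊓ centralizer S ≠ ⊥` (`S ≠ ⊥` as `n ≥ 2`; `IsPGroup.center_nontrivial`) is normal in `H` and moves a point, so it is
transitive (`IsPreprimitive.isQuasipreprimitive`, `isPretransitive_of_normal`). If `y ∈ S` fixes `a` then it fixes every
`z • a`, so `y = 1` (`free`); for `y ∈ S` pick `z ∈ Z` with `z • a = y • a`, so `y = z ∈ Z` (`comm`). -/

set_option autoImplicit false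
set_option linter.unusedSectionVars false
set_option linter.unusedVariables false

namespace CfsgLib.DIX
open MulAction Subgroup

variable {G Ω : Type*} [Group G] [MulAction G Ω] [Finite G] [Finite Ω] {D : Subgroup G}

theorem REG_relIndex (S : Subgroup G) (a : Ω) :
    (stabilizer G a).relIndex S = (orbit S a).ncard := by
  have : (stabilizer G a).subgroupOf S = stabilizer S a := by
    ext x; simp [mem_subgroupOf, mem_stabilizer_iff]; rfl
  rw [Subgroup.relIndex, this, MulAction.index_stabilizer]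

theorem REG_trans {S : Subgroup G} (hS : S ≤ D) (htr : ∀ a b : Ω, ∃ d ∈ D, d • a = b)
    (hc : (Nat.card Ω).Coprime (S.relIndex D)) (a b : Ω) : ∃ y ∈ S, y • a = b := by
  have h1 : (stabilizer G a).relIndex D = Nat.card Ω := by
    rw [REG_relIndex]
    have : orbit D a = Set.univ := by
      ext c
      simp only [Set.mem_univ, iff_true]
      obtain ⟨d, hd, rfl⟩ := htr a c
      exact ⟨⟨d, hd⟩, rfl⟩
    rw [this, Set.ncard_univ]
  have h2 : (stabilizer G a).relIndex D ∣ (stabilizer G a ⊓ S).relIndex D :=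
    relIndex_dvd_of_le_left D inf_le_left
  have h3 : (stabilizer G a ⊓ S).relIndex S * S.relIndex D = (stabilizer G a ⊓ S).relIndex D :=
    relIndex_mul_relIndex _ _ _ inf_le_right hS
  rw [← h3, h1, inf_relIndex_right, REG_relIndex] at h2
  have h4 : Nat.card Ω ∣ (orbit S a).ncard := hc.dvd_of_dvd_mul_right h2
  have h5 : 0 < (orbit S a).ncard := (Set.ncard_pos (Set.toFinite _)).2 ⟨a, mem_orbit_self a⟩
  have h6 : orbit S a = Set.univ := by
    apply Set.eq_of_subset_of_ncard_le (Set.subset_univ _)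
    rw [Set.ncard_univ]
    exact Nat.le_of_dvd h5 h4
  have : b ∈ orbit S a := by rw [h6]; trivial
  obtain ⟨y, hy⟩ := this
  exact ⟨y, y.2, hy⟩

theorem REG_pow (h : Dat G Ω D) (h2 : 2 ≤ Nat.card Ω) (hn : Nat.card Ω < (D.index + 1) ^ 2) :
    ∃ s a : ℕ, s.Prime ∧ Nat.card Ω = s ^ a := by
  have : Nonempty Ω := (Nat.card_pos_iff.1 (by omega)).1
  set s := (Nat.card Ω).minFac with hs
  have hsp : s.Prime := Nat.minFac_prime (by omega)
  refine ⟨s, _, hsp, Nat.eq_prime_pow_of_unique_prime_dvd (by omega) ?_⟩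
  intro d hd hdd
  by_contra hne
  obtain ⟨k, hk, hk'⟩ := h.pp hsp (Nat.minFac_dvd _)
  obtain ⟨l, hl, hl'⟩ := h.pp hd hdd
  have hcop : (s ^ k).Coprime (d ^ l) :=
    Nat.Coprime.pow _ _ ((Nat.coprime_primes hsp hd).2 (Ne.symm hne))
  have := Nat.le_of_dvd (by omega) (hcop.mul_dvd_of_dvd_of_dvd hk hl)
  have h3 : (D.index + 1) ^ 2 ≤ s ^ k * d ^ l := by
    rw [pow_two]; exact Nat.mul_le_mul hk' hl'
  omega

theorem Dat.reg (h : Dat G Ω D) (h2 : 2 ≤ Nat.card Ω) (hn : Nat.card Ω < (D.index + 1) ^ 2) :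
    ∃ (s : ℕ) (S : Subgroup G), Reg G Ω D S s := by
  obtain ⟨s, a, hs, hsa⟩ := REG_pow h h2 hn
  have := Fact.mk hs
  obtain ⟨S, hS⟩ := LAE.exists_isSylowIn s D
  have hle : S ≤ D := hS.le
  have hpg : IsPGroup s S := hS.isPGroup
  have hnd : ¬ s ∣ S.relIndex D := hS.not_dvd_relIndex
  have hc : (Nat.card Ω).Coprime (S.relIndex D) := by
    rw [hsa]
    exact Nat.Coprime.pow_left _ ((Nat.Prime.coprime_iff_not_dvd hs).2 hnd)
  have htr := REG_trans hle h.trans hc
  have hsup : ∀ g : G, ∃ x ∈ normalizer (S : Set G), x⁻¹ * g ∈ D := by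
    intro g
    have := h.normal
    obtain ⟨y, hy, n, hn, rfl⟩ := hS.frattini' (x := g) (by
      rw [normalizer_eq_top]; trivial)
    exact ⟨y, hy, by simpa using hn⟩
  set H := normalizer (S : Set G) with hH
  have hSH : S ≤ H := le_normalizer
  have hD' : Dat H Ω (D.subgroupOf H) := h.sub H (fun a b => by
    obtain ⟨y, hy, e⟩ := htr a b
    exact ⟨y, hle hy, hSH hy, e⟩)
  have hprim : IsPreprimitive H Ω := by
    by_contra hp
    have := hD'.imp hp
    rw [index_subgroupOf_of_sup h.normal hsup] at this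
    omega
  have : Nontrivial Ω := Finite.one_lt_card_iff_nontrivial.1 (by omega)
  obtain ⟨p, q, hpq⟩ := exists_pair_ne Ω
  have : Nontrivial S := by
    obtain ⟨y, hy, e⟩ := htr p q
    refine ⟨⟨⟨y, hy⟩, 1, fun h1 => hpq ?_⟩⟩
    have : y = 1 := congrArg Subtype.val h1
    rw [← e, this, one_smul]
  have := hpg.center_nontrivial
  obtain ⟨z, hz1⟩ := exists_ne (1 : center S)
  set Z : Subgroup G := S ⊓ centralizer (S : Set G) with hZ
  have hzZ : ((z : S) : G) ∈ Z := by
    refine ⟨(z : S).2, ?_⟩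
    intro y hy
    have := Subgroup.mem_center_iff.1 z.2 ⟨y, hy⟩
    exact congrArg Subtype.val this
  have hz1' : ((z : S) : G) ≠ 1 := fun e => hz1 (Subtype.ext (Subtype.ext e))
  have hZn : (Z.subgroupOf H).Normal :=
    LAE.normal_subgroupOf_of_le (LAE.le_normalizer_inf le_rfl (LAE.le_normalizer_centralizer le_rfl))
  have hZtr : ∀ a b : Ω, ∃ y ∈ Z, y • a = b := by
    have hne : fixedPoints (Z.subgroupOf H) Ω ≠ Set.univ := by
      intro hu
      apply hz1'
      apply h.faith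
      intro c
      have hc : c ∈ fixedPoints (Z.subgroupOf H) Ω := by rw [hu]; trivial
      exact hc ⟨⟨_, hSH hzZ.1⟩, hzZ⟩
    have := IsQuasiPreprimitive.isPretransitive_of_normal (G := H) (X := Ω) hne
    intro a b
    obtain ⟨y, hy⟩ := this.exists_smul_eq a b
    exact ⟨((y : H) : G), y.2, hy⟩
  have hfree : ∀ y ∈ S, ∀ a : Ω, y • a = a → y = 1 := by
    intro y hy c hc
    apply h.faith
    intro b
    obtain ⟨w, hw, rfl⟩ := hZtr c b
    have : y * w = w * y := hw.2 y hy
    rw [← mul_smul, this, mul_smul, hc]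
  refine ⟨s, S, hs, hle, hpg, hnd, ?_, htr, hfree, hsup⟩
  intro x hx y hy
  obtain ⟨w, hw, e⟩ := hZtr p (y • p)
  have h1 : y⁻¹ * w = 1 := hfree _ (S.mul_mem (S.inv_mem hy) hw.1) p (by
    rw [mul_smul, e, inv_smul_smul])
  have h3 : w = y := by rw [inv_mul_eq_one] at h1; exact h1.symm
  rw [← h3]
  exact hw.2 x hx

end CfsgLib.DIX
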